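import Cfsg.Agent.Lib.CFun.MinParab.Push.Two.Cent
import Cfsg.Agent.Lib.CFun.MinParab.Push.Image

/-!
# Pushing up with two natural steps: the residuals of the components are commuting blocks

The residual of a component is the residual of its member. Two of them meet inside their lower layers, as two
commuting groups cannot both induce `SL₂` on one upper layer, and the involution of one residual shows that
they meet in their centres.
-/

set_option autoImplicit false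
set_option linter.unusedSectionVars false
set_option linter.style.haveILetI false

open Subgroup
open CfsgLib.Char.NatSL (fixS mem_fixS)
open CfsgLib.Fusion (conjBy conjBy_eq_iff conjBy_eq_of_le)
open scoped commutatorElement MatrixGroups
open CfsgLib.PushUp (Fr)

namespace CfsgLib.CFun.MinParab.Push.Two

universe u v w

section General

variable {G : Type u} [Group G]

theorem mem_normalizer_commutator {A B : Subgroup G} {z : G} (hA : z ∈ normalizer (A : Set G))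
    (hB : z ∈ normalizer (B : Set G)) : z ∈ normalizer ((⁅A, B⁆ : Subgroup G) : Set G) :=
  conjBy_eq_iff.1 ((Subgroup.map_commutator A B _).trans
    (congrArg₂ _ (conjBy_eq_iff.2 hA) (conjBy_eq_iff.2 hB)))

theorem mem_normalizer_sup {A B : Subgroup G} {z : G} (hA : z ∈ normalizer (A : Set G))
    (hB : z ∈ normalizer (B : Set G)) : z ∈ normalizer ((A ⊔ B : Subgroup G) : Set G) :=
  conjBy_eq_iff.1 ((Subgroup.map_sup A B _).trans
    (congrArg₂ _ (conjBy_eq_iff.2 hA) (conjBy_eq_iff.2 hB)))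

theorem mem_normalizer_inf {A B : Subgroup G} {z : G} (hA : z ∈ normalizer (A : Set G))
    (hB : z ∈ normalizer (B : Set G)) : z ∈ normalizer ((A ⊓ B : Subgroup G) : Set G) :=
  mem_normalizer_iff.2 fun x => and_congr (mem_normalizer_iff.1 hA x) (mem_normalizer_iff.1 hB x)

end General

variable {G : Type u} [Group G] [Finite G] {T : Sylow 3 G} {M : Subgroup G}
  {H : Type v} [Group H] [Finite H] {U : Type w} [AddCommGroup U] [Finite U] [DistribMulAction H U]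
  {m : Glue.Mdl (vQ 3 G) ⊤ H U} {q n r : ℕ} {S : Sylow 3 H} {E : Fin r → Subgroup H}

variable (d : Data T M m q n r S E)
include d

section One

variable {i : Fin r} {F : Type} [Field F] [Fintype F] {X A : Subgroup G}
  (mb : Member T m E i (E i) F X) (L : Loc F T X A)
include mb L

theorem proj_one' {x : G} : proj m x = 1 ↔ x ∈ Cfsg.pCore 3 G := by
  rw [proj_eq_one, cent_eq d mb L]

omit L in
/-- `O_p(G)` normalizes the member. -/
theorem pCore_le_normalizer {z : G} (hz : z ∈ Cfsg.pCore 3 G) : z ∈ normalizer (X : Set G) := by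
  haveI := CfsgLib.Coprime.pCore_normal' (G := G) 3
  refine conjBy_eq_iff.1 (conjBy_eq_of_le ?_)
  rintro _ ⟨y, hy, rfl⟩
  show z * y * z⁻¹ ∈ X
  obtain ⟨K₀, hK₀⟩ : ∃ K₀ : Subgroup ↥X,
      K₀ = ⨅ x : ↥X, X.comap ((MulAut.conj (z * (x : G))).toMonoidHom.comp X.subtype) := ⟨_, rfl⟩
  have hmem : ∀ y : ↥X, y ∈ K₀ ↔ ∀ x : ↥X, z * (x : G) * (y : G) * (z * (x : G))⁻¹ ∈ X := fun y => by
    rw [hK₀, mem_iInf]
    rfl
  haveI hn : K₀.Normal := ⟨fun y hy g => (hmem _).2 fun x => by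
    have h := (hmem y).1 hy (x * g)
    rw [Subgroup.coe_mul] at h
    convert h using 1
    simp only [Subgroup.coe_mul, Subgroup.coe_inv]
    group⟩
  have hB : (bT T).subgroupOf X ≤ K₀ := fun b hb => (hmem _).2 fun x => by
    obtain ⟨z', hz'⟩ : ∃ z', z' = (x : G)⁻¹ * z * x := ⟨_, rfl⟩
    have h1 : z' ∈ Cfsg.pCore 3 G := by
      have := Normal.conj_mem inferInstance z hz (x : G)⁻¹
      rwa [inv_inv, ← hz'] at this
    have h2 : ⁅z', (b : G)⁆ * b ∈ bT T :=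
      mul_mem (d.pCore_comm (commutator_mem_commutator h1 (mem_subgroupOf.1 hb))).1 (mem_subgroupOf.1 hb)
    have h3 := X.mul_mem (X.mul_mem x.2 (mb.le h2)) (X.inv_mem x.2)
    convert h3 using 1
    simp only [hz', commutatorElement_def]
    group
  have htop : K₀ = ⊤ := by
    rcases mb.sit.sup_or K₀ with h | h
    · exact absurd ((le_inf le_rfl hB).trans h) (PushAmalgam.Sit.not_le_pCore mb.sit)
    · rwa [sup_eq_left.2 hB] at h
  have h := (hmem ⟨y, hy⟩).1 (htop.ge (mem_top _)) 1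
  rwa [Subgroup.coe_one, mul_one] at h

/-- The residual of the component is the residual of the member. -/
theorem comp_eq : comp m E i = Cfsg.pResidualOf 3 X := by
  set Ex := Cfsg.pResidualOf 3 X
  refine le_antisymm (res_le_of fun x hx ho => ?_)
    (res_le_of fun y hy ho => mem_res (mem_lift_proj.2 (mb.res_le y hy ho)) ho)
  have hQN : Cfsg.pCore 3 G ≤ normalizer (Ex : Set G) := fun z hz =>
    CfsgLib.Char.TW.normalizer_le_pResidualOf 3 X (pCore_le_normalizer d mb hz)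
  have hBN : bT T ≤ normalizer (Ex : Set G) :=
    mb.le.trans (le_normalizer.trans (CfsgLib.Char.TW.normalizer_le_pResidualOf 3 X))
  refine CfsgLib.BaumannNormal.coprime_mem_sup (Q := bT T ⊔ Cfsg.pCore 3 G)
    (T.2.to_le (sup_le inf_le_left pCore_le_T)) (sup_le hBN hQN) ?_ ho
  obtain ⟨x', hx', he⟩ := (img_eq_map m X).le (mb.image.ge (mem_sup_left (mem_lift_proj.1 hx)))
  have hz : x'⁻¹ * x ∈ Cfsg.pCore 3 G := by
    rw [← proj_one' d mb L, map_mul, map_inv, he, inv_mul_cancel]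
  rw [← mul_inv_cancel_left x' x]
  refine mul_mem ?_ (mem_sup_right (mem_sup_right hz))
  exact (sup_le_sup_left (le_sup_left : bT T ≤ bT T ⊔ Cfsg.pCore 3 G) Ex) (mb.res_sup_bT.ge hx')

theorem inf_pCore : Cfsg.pResidualOf 3 X ⊓ Cfsg.pCore 3 G = rQ X := by
  rw [← cent_eq d mb L, L.R_eq]

omit mb in
/-- What normalizes the residual normalizes the lower layer. -/
theorem mem_normalizer_WZ {z : G} (hz : z ∈ normalizer (Cfsg.pResidualOf 3 X : Set G)) :
    z ∈ normalizer ((wQ X ⊔ zQ X : Subgroup G) : Set G) := by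
  haveI := Glue.Setting.omega_normal (G := G) (p := 3)
  refine mem_normalizer_sup (mem_normalizer_commutator ?_ hz) (mem_normalizer_inf ?_ ?_)
  · rw [normalizer_eq_top_iff.2 (inferInstance : (vQ 3 G).Normal)]; exact mem_top z
  · have h := CfsgLib.JComp.normalizer_le_normalizer_pCoreOf (p := 3) _ hz
    rwa [L.core] at h
  · exact CfsgLib.Coprime.normalizer_le_normalizer_centralizer _ hz

/-- Elements commuting with the residual modulo the kernel induce commuting maps on the upper layer. -/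
theorem act_comm {l l' : G} (hl : l ∈ normalizer (rQ X : Set G)) (hl' : l' ∈ normalizer (rQ X : Set G))
    (hk : ∀ k ∈ Cfsg.pResidualOf 3 X, inKer T ⁅l⁻¹, k⁻¹⁆)
    (hk' : ∀ k ∈ Cfsg.pResidualOf 3 X, inKer T ⁅l'⁻¹, k⁻¹⁆) {r₀ : G} (hr₀ : r₀ ∈ rQ X) :
    (l * l' * r₀ * (l * l')⁻¹)⁻¹ * (l' * l * r₀ * (l' * l)⁻¹) ∈ nQ T := by
  classical
  haveI := nQ_normal d
  haveI := charF d mb L
  obtain ⟨ρ, ψ, hψ, hψ1, hfour, -, heq⟩ := L.natR
  have hψn : ∀ u : ↥(rQ X), ψ u = 1 ↔ (u : G) ∈ nQ T := fun u =>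
    (hψ1 u).trans ⟨fun h => L.WZ_le h, fun h => L.R_inf ⟨u.2, h⟩⟩
  have hψπ : ∀ u u' : ↥(rQ X), ψ u = ψ u' ↔ (u : G)⁻¹ * u' ∈ nQ T := fun u u' => by
    rw [← inv_mul_eq_one, ← map_inv, ← map_mul, hψn]
    rfl
  have hKN : ∀ k ∈ Cfsg.pResidualOf 3 X, ∀ u ∈ rQ X, k * u * k⁻¹ ∈ rQ X := fun k hk u hu => by
    rw [show k * u * k⁻¹ = ⁅u, k⁆⁻¹ * u by rw [commutatorElement_def]; group]
    exact mul_mem (inv_mem (L.comm_RK.le (commutator_mem_commutator hu hk))) hu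
  have main : ∀ s : G, s ∈ normalizer (rQ X : Set G) →
      (∀ k ∈ Cfsg.pResidualOf 3 X, inKer T ⁅s⁻¹, k⁻¹⁆) →
      ∃ μ : F, ∀ u w : ↥(rQ X), (w : G) = s * u * s⁻¹ →
        Multiplicative.toAdd (ψ w) = μ • Multiplicative.toAdd (ψ u) := by
    intro s hs hsk
    obtain ⟨σ, hσ⟩ := hψ.hasRightInverse
    obtain ⟨f, hf⟩ : ∃ f : ↥(rQ X) →* ↥(rQ X), ∀ u, (f u : G) = s * u * s⁻¹ :=
      ⟨MonoidHom.mk' (fun u => ⟨s * u * s⁻¹, (mem_normalizer_iff.1 hs _).1 u.2⟩) fun a b =>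
        Subtype.ext (by simp only [Subgroup.coe_mul]; group), fun _ => rfl⟩
    have hfc : ∀ u u', ψ u = ψ u' → ψ (f u) = ψ (f u') := fun u u' h => by
      rw [hψπ, hf, hf, show (s * (u : G) * s⁻¹)⁻¹ * (s * u' * s⁻¹) = s * ((u : G)⁻¹ * u') * s⁻¹ by group]
      exact Normal.conj_mem inferInstance _ ((hψπ _ _).1 h) s
    obtain ⟨φ, hφ⟩ : ∃ φ : (Fin 2 → F) →+ (Fin 2 → F),
        ∀ u, φ (Multiplicative.toAdd (ψ u)) = Multiplicative.toAdd (ψ (f u)) := by
      refine ⟨AddMonoidHom.mk' (fun w => Multiplicative.toAdd (ψ (f (σ (Multiplicative.ofAdd w)))))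
        fun w w' => ?_, fun u => ?_⟩
      · rw [← toAdd_mul, ← map_mul, ← map_mul]
        congr 1
        exact hfc _ _ (by rw [map_mul, hσ, hσ, hσ, ofAdd_add])
      · exact congrArg Multiplicative.toAdd (hfc _ _ (by rw [hσ, ofAdd_toAdd]))
    have hφg : ∀ g : SL(2, F), g ^ 4 = 1 → ∀ w, φ (g.1.mulVec w) = g.1.mulVec (φ w) := by
      intro g hg w
      obtain ⟨k, rfl⟩ := hfour g hg
      obtain ⟨u, hu⟩ := hψ (Multiplicative.ofAdd w)
      have hw : w = Multiplicative.toAdd (ψ u) := by rw [hu, toAdd_ofAdd]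
      obtain ⟨v, hv⟩ : ∃ v : ↥(rQ X), (v : G) = (k : G) * u * (k : G)⁻¹ :=
        ⟨⟨_, hKN _ k.2 _ u.2⟩, rfl⟩
      obtain ⟨v', hv'⟩ : ∃ v' : ↥(rQ X), (v' : G) = (k : G) * (f u : G) * (k : G)⁻¹ :=
        ⟨⟨_, hKN _ k.2 _ (f u).2⟩, rfl⟩
      rw [hw, ← heq k u v hv, hφ, hφ, ← heq k (f u) v' hv']
      congr 1
      rw [hψπ, hf, hv, hv', hf]
      obtain ⟨c, hc⟩ : ∃ c, c = ⁅s⁻¹, (k : G)⁻¹⁆ := ⟨_, rfl⟩
      have h1 : ⁅c, (u : G)⁆ ∈ nQ T := hc ▸ hsk _ k.2 _ (L.R_le_q0 u.2)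
      have e : (s * ((k : G) * u * (k : G)⁻¹) * s⁻¹)⁻¹ * ((k : G) * (s * u * s⁻¹) * (k : G)⁻¹) =
          ((k : G) * s) * ⁅c, (u : G)⁻¹⁆ * ((k : G) * s)⁻¹ := by
        simp only [hc, commutatorElement_def]
        group
      rw [e]
      refine Normal.conj_mem inferInstance _ ?_ _
      rw [show ⁅c, (u : G)⁻¹⁆ = (u : G)⁻¹ * ⁅c, (u : G)⁆⁻¹ * (u : G)⁻¹⁻¹ by
        simp only [commutatorElement_def]; group]
      exact Normal.conj_mem inferInstance _ (inv_mem h1) _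
    obtain ⟨μ, hμ⟩ := PushAmalgam.SLThree.exists_scalar φ hφg
    exact ⟨μ, fun u w e => by rw [← hμ, hφ, show w = f u from Subtype.ext (e.trans (hf u).symm)]⟩
  obtain ⟨μ, hμ⟩ := main l hl hk
  obtain ⟨μ', hμ'⟩ := main l' hl' hk'
  obtain ⟨a, ha⟩ : ∃ a : ↥(rQ X), (a : G) = l * r₀ * l⁻¹ := ⟨⟨_, (mem_normalizer_iff.1 hl _).1 hr₀⟩, rfl⟩
  obtain ⟨a', ha'⟩ : ∃ a' : ↥(rQ X), (a' : G) = l' * r₀ * l'⁻¹ :=
    ⟨⟨_, (mem_normalizer_iff.1 hl' _).1 hr₀⟩, rfl⟩
  obtain ⟨b, hb⟩ : ∃ b : ↥(rQ X), (b : G) = l * a' * l⁻¹ := ⟨⟨_, (mem_normalizer_iff.1 hl _).1 a'.2⟩, rfl⟩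
  obtain ⟨b', hb'⟩ : ∃ b' : ↥(rQ X), (b' : G) = l' * a * l'⁻¹ :=
    ⟨⟨_, (mem_normalizer_iff.1 hl' _).1 a.2⟩, rfl⟩
  have h : ψ b = ψ b' := Multiplicative.toAdd.injective (by
    rw [hμ a' b hb, hμ' ⟨r₀, hr₀⟩ a' ha', hμ' a b' hb', hμ ⟨r₀, hr₀⟩ a ha, smul_comm])
  have e := (hψπ _ _).1 h
  rw [hb, hb', ha, ha'] at e
  rw [show l * l' * r₀ * (l * l')⁻¹ = l * (l' * r₀ * l'⁻¹) * l⁻¹ by group,
    show l' * l * r₀ * (l' * l)⁻¹ = l' * (l * r₀ * l⁻¹) * l'⁻¹ by group]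
  exact e

/-- The residual does not induce commuting maps on its upper layer. -/
theorem not_act_comm (h : ∀ l ∈ Cfsg.pResidualOf 3 X, ∀ l' ∈ Cfsg.pResidualOf 3 X, ∀ r₀ ∈ rQ X,
    (l * l' * r₀ * (l * l')⁻¹)⁻¹ * (l' * l * r₀ * (l' * l)⁻¹) ∈ nQ T) : False := by
  classical
  haveI := charF d mb L
  obtain ⟨ρ, ψ, hψ, hψ1, hfour, -, heq⟩ := L.natR
  obtain ⟨g, g', hg, hg', hne⟩ := PushAmalgam.SLThree.exists_noncommuting (F := F)
  obtain ⟨k, rfl⟩ := hfour g hg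
  obtain ⟨k', rfl⟩ := hfour g' hg'
  have hKN : ∀ k ∈ Cfsg.pResidualOf 3 X, ∀ u ∈ rQ X, k * u * k⁻¹ ∈ rQ X := fun k hk u hu => by
    rw [show k * u * k⁻¹ = ⁅u, k⁆⁻¹ * u by rw [commutatorElement_def]; group]
    exact mul_mem (inv_mem (L.comm_RK.le (commutator_mem_commutator hu hk))) hu
  refine hne (Subtype.ext (Matrix.mulVec_injective (funext fun w => ?_)))
  obtain ⟨u, hu⟩ := hψ (Multiplicative.ofAdd w)
  obtain ⟨a, ha⟩ : ∃ a : ↥(rQ X), (a : G) = ((k * k' : ↥(Cfsg.pResidualOf 3 X)) : G) * u *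
      ((k * k' : ↥(Cfsg.pResidualOf 3 X)) : G)⁻¹ := ⟨⟨_, hKN _ (k * k').2 _ u.2⟩, rfl⟩
  obtain ⟨b, hb⟩ : ∃ b : ↥(rQ X), (b : G) = ((k' * k : ↥(Cfsg.pResidualOf 3 X)) : G) * u *
      ((k' * k : ↥(Cfsg.pResidualOf 3 X)) : G)⁻¹ := ⟨⟨_, hKN _ (k' * k).2 _ u.2⟩, rfl⟩
  have h1 := heq _ u a ha
  have h2 := heq _ u b hb
  rw [hu, toAdd_ofAdd, map_mul] at h1 h2
  rw [← h1, ← h2]
  congr 1
  rw [← inv_mul_eq_one, ← map_inv, ← map_mul, hψ1, Subgroup.coe_mul, Subgroup.coe_inv]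
  refine L.R_inf ⟨(rQ X).mul_mem ((rQ X).inv_mem a.2) b.2, ?_⟩
  rw [ha, hb, Subgroup.coe_mul, Subgroup.coe_mul]
  exact h _ k.2 _ k'.2 _ u.2

end One

section Pair

variable {i j : Fin r} (hij : i ≠ j)
include hij

/-- The residual of another component normalizes the upper layer and moves it into the kernel. -/
theorem cross_comm {F : Type} [Field F] [Fintype F] {X A : Subgroup G} (mb : Member T m E i (E i) F X)
    (L : Loc F T X A) {k l : G} (hk : k ∈ comp m E i) (hl : l ∈ comp m E j) :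
    ⁅k, l⁆ ∈ comp m E i ⊓ comp m E j ⊓ Cfsg.pCore 3 G := by
  have hki : proj m k ∈ E i := mem_lift_proj.1 (res_le _ hk)
  have hlj : proj m l ∈ E j := mem_lift_proj.1 (res_le _ hl)
  have hkn := d.mem_normalizer_comp (i := j) (le_iSup E i hki)
  have hln := d.mem_normalizer_comp (i := i) (le_iSup E j hlj)
  refine ⟨⟨?_, ?_⟩, (proj_one' d mb L).1 ?_⟩
  · rw [show ⁅k, l⁆ = k * (l * k⁻¹ * l⁻¹) by rw [commutatorElement_def]; group]
    exact (comp m E i).mul_mem hk ((mem_normalizer_iff.1 hln _).1 ((comp m E i).inv_mem hk))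
  · rw [commutatorElement_def]
    exact (comp m E j).mul_mem ((mem_normalizer_iff.1 hkn _).1 hl) ((comp m E j).inv_mem hl)
  · rw [map_commutatorElement, commutatorElement_eq_one_iff_mul_comm]
    exact d.frame.parts.com i j hij _ hki _ hlj

variable {F F' : Type} [Field F] [Fintype F] [Field F'] [Fintype F'] {X X' A A' : Subgroup G}
  (mb : Member T m E i (E i) F X) (L : Loc F T X A) (mb' : Member T m E j (E j) F' X') (L' : Loc F' T X' A')
include mb L mb' L'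

omit hij in
theorem inter_eq : comp m E i ⊓ comp m E j ⊓ Cfsg.pCore 3 G = rQ X ⊓ rQ X' := by
  rw [comp_eq d mb L, comp_eq d mb' L', ← inf_pCore d mb L, ← inf_pCore d mb' L']
  exact le_antisymm (fun x hx => ⟨⟨hx.1.1, hx.2⟩, hx.1.2, hx.2⟩) fun x hx => ⟨⟨hx.1.1, hx.2.1⟩, hx.1.2⟩

/-- The common part lies in the lower layer or covers the upper one. -/
theorem inter_cases : rQ X ⊓ rQ X' ≤ wQ X ⊔ zQ X ∨ rQ X ≤ (rQ X ⊓ rQ X') ⊔ (wQ X ⊔ zQ X) := by
  haveI := CfsgLib.Coprime.pCore_normal' (G := G) 3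
  have hWZ : wQ X ⊔ zQ X ≤ rQ X := sup_le L.W_le inf_le_left
  obtain ⟨N, hN⟩ : ∃ N, N = (rQ X ⊓ rQ X') ⊔ (wQ X ⊔ zQ X) := ⟨_, rfl⟩
  have key : X ≤ normalizer (N : Set G) := by
    intro x hx
    have hxE : proj m x ∈ ⨆ k, E k := (mb.image.le.trans (sup_le (le_iSup E i) d.bT_le))
      ((img_eq_map m X).ge (mem_map_of_mem _ hx))
    have hi := d.mem_normalizer_comp (i := i) hxE
    have hj := d.mem_normalizer_comp (i := j) hxE
    rw [hN, ← inter_eq d mb L mb' L']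
    refine mem_normalizer_sup (mem_normalizer_inf (mem_normalizer_inf hi hj) ?_) ?_
    · rw [normalizer_eq_top_iff.2 (inferInstance : (Cfsg.pCore 3 G).Normal)]; exact mem_top x
    · rw [comp_eq d mb L] at hi
      exact mem_normalizer_WZ d L hi
  rcases L.between N key (hN ▸ le_sup_right) (hN ▸ sup_le inf_le_left hWZ) with h | h
  · exact Or.inl (h ▸ hN ▸ le_sup_left)
  · exact Or.inr (hN ▸ h.ge)

/-- The common part lies in the lower layers. -/
theorem inter_le : rQ X ⊓ rQ X' ≤ wQ X ⊔ zQ X := by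
  classical
  refine (inter_cases d hij mb L mb' L').resolve_right fun h => ?_
  haveI := nQ_normal d
  rcases inter_cases d (Ne.symm hij) mb' L' mb L with h' | h'
  · -- the upper layer would lie in the kernel
    obtain ⟨ρ, ψ, hψ, hψ1, -⟩ := L.natR
    obtain ⟨u, hu⟩ := hψ (Multiplicative.ofAdd fun _ => 1)
    have h1 : (u : G) ∈ nQ T :=
      (h.trans (sup_le ((inf_comm _ _).le.trans (h'.trans L'.WZ_le)) L.WZ_le)) u.2
    rw [(hψ1 u).2 (L.R_inf ⟨u.2, h1⟩)] at hu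
    exact one_ne_zero (α := F) (congrFun (Multiplicative.ofAdd.injective hu).symm 0)
  refine not_act_comm d mb' L' fun l hl l' hl' r₀ hr₀ => ?_
  rw [← comp_eq d mb' L'] at hl hl'
  have hn : ∀ l ∈ comp m E j, l ∈ normalizer (rQ X : Set G) := fun l hl => by
    have h1 := d.mem_normalizer_comp (i := i) (le_iSup E j (mem_lift_proj.1 (res_le _ hl)))
    rw [comp_eq d mb L] at h1
    have h2 := CfsgLib.JComp.normalizer_le_normalizer_pCoreOf (p := 3) _ h1
    rwa [L.core] at h2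
  have hk : ∀ l ∈ comp m E j, ∀ k ∈ Cfsg.pResidualOf 3 X, inKer T ⁅l⁻¹, k⁻¹⁆ := fun l hl k hk => by
    refine inKer_of_q0 d (L.R_le_q0 ?_)
    rw [← commutatorElement_inv]
    refine inv_mem ((inter_eq d mb L mb' L').le ?_).1
    exact cross_comm d hij mb L (inv_mem (comp_eq d mb L ▸ hk)) (inv_mem hl)
  obtain ⟨c, hc, r', hr', rfl⟩ : ∃ c ∈ nQ T, ∃ r' ∈ rQ X, c * r' = r₀ := by
    refine mem_sup_of_normal_left.1 ((h'.trans
      (sup_le (inf_le_right.trans le_sup_right) (L'.WZ_le.trans le_sup_left))) hr₀)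
  have h1 := act_comm d mb L (hn _ hl) (hn _ hl') (hk _ hl) (hk _ hl') hr'
  obtain ⟨a, ha⟩ : ∃ a, a = l * l' := ⟨_, rfl⟩
  obtain ⟨b, hb⟩ : ∃ b, b = l' * l := ⟨_, rfl⟩
  rw [← ha, ← hb] at h1 ⊢
  rw [show (a * (c * r') * a⁻¹)⁻¹ * (b * (c * r') * b⁻¹) =
      (a * r' * a⁻¹)⁻¹ * ((a * c * a⁻¹)⁻¹ * (b * c * b⁻¹)) * (a * r' * a⁻¹)⁻¹⁻¹ *
        ((a * r' * a⁻¹)⁻¹ * (b * r' * b⁻¹)) by group]
  exact mul_mem (Normal.conj_mem inferInstance _
    (mul_mem (inv_mem (Normal.conj_mem inferInstance _ hc _)) (Normal.conj_mem inferInstance _ hc _)) _) h1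

/-- The common part lies in the central layer. -/
theorem inter_le_Z : rQ X ⊓ rQ X' ≤ zQ X := by
  intro x hx
  obtain ⟨w, hw, z, hz, rfl⟩ := CfsgLib.Coprime.mem_sup_exists
    (H := zQ X) (N := wQ X) (fun z hz => centralizer_le_normalizer _ (mem_centralizer_iff.2 fun w hw =>
      (L.W_fix w hw z (L.R_le_q0 hz.1)).eq)) (inter_le d hij mb L mb' L' hx)
  obtain ⟨w', hw', z', hz', e⟩ := CfsgLib.Coprime.mem_sup_exists (H := zQ X') (N := wQ X')
    (fun z hz => centralizer_le_normalizer _ (mem_centralizer_iff.2 fun w hw =>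
      (L'.W_fix w hw z (L'.R_le_q0 hz.1)).eq))
    (inter_le d (Ne.symm hij) mb' L' mb L ⟨hx.2, hx.1⟩)
  obtain ⟨t, ht, hinv⟩ := L.invol
  have hfix : ∀ y ∈ Fr (q0 T), t * y * t⁻¹ = y := fun y hy => by
    rw [mem_centralizer_iff.1 (L.Fr_cent hy) t ht, mul_inv_cancel_right]
  have hw'fix : t * w' * t⁻¹ = w' := by
    have hW : wQ X' ≤ wPart m E j := commutator_le.2 fun v hv k hk => by
      rw [← commutatorElement_inv]
      exact inv_mem (comm_mem_sub (mb'.proj_res_mem hk) hv)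
    have h := comm_sub_eq_one (x := t) (d.frame.parts.cross j i (Ne.symm hij)) (mb.proj_res_mem ht) (hW hw')
    rw [commutatorElement_def] at h
    exact mul_inv_eq_one.1 h
  have h1 : t * (w * z) * t⁻¹ = w * z := by
    calc t * (w * z) * t⁻¹ = (t * w' * t⁻¹) * (t * z' * t⁻¹) := by rw [← e]; group
      _ = w' * z' := by rw [hw'fix, hfix z' (L'.Z_le hz')]
      _ = w * z := e
  have h2 : w⁻¹ = w := mul_right_cancel (b := z) (by
    calc w⁻¹ * z = (t * w * t⁻¹) * (t * z * t⁻¹) := by rw [hinv w hw, hfix z (L.Z_le hz)]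
      _ = t * (w * z) * t⁻¹ := by group
      _ = w * z := h1)
  obtain ⟨k, hk⟩ := d.q0_pgroup ⟨w, L.R_le_q0 (L.W_le hw)⟩
  have h3 : w = 1 := orderOf_eq_one_iff.1 (Nat.eq_one_of_dvd_coprimes
    ((by decide : Nat.Coprime 2 3).pow_right k)
    (orderOf_dvd_of_pow_eq_one (by rw [pow_two]; nth_rw 1 [← h2]; exact inv_mul_cancel w))
    (orderOf_dvd_of_pow_eq_one (congrArg Subtype.val hk)))
  rw [h3, one_mul]
  exact hz

/-- The residuals of two components commute. -/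
theorem comp_comm : ⁅comp m E i, comp m E j⁆ = ⊥ := by
  rw [commutator_eq_bot_iff_le_centralizer]
  refine (res_res _).ge.trans (res_le_of fun k hk ho => mem_centralizer_iff.2 fun l hl => ?_)
  have hL : ∀ a ∈ comp m E i, ⁅a, l⁆ ∈ zQ X := fun a ha =>
    inter_le_Z d hij mb L mb' L' ((inter_eq d mb L mb' L').le (cross_comm d hij mb L ha hl))
  have hpow : ∀ a : ℕ, ⁅k ^ a, l⁆ = ⁅k, l⁆ ^ a := by
    intro a
    induction a with
    | zero => rw [pow_zero, pow_zero, commutatorElement_one_left]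
    | succ a ih =>
      have hc : ⁅k ^ a, l⁆ ∈ centralizer (Cfsg.pResidualOf 3 X : Set G) := (hL _ (pow_mem hk a)).2
      rw [pow_succ', show ⁅k * k ^ a, l⁆ = k * ⁅k ^ a, l⁆ * k⁻¹ * ⁅k, l⁆ by
          simp only [commutatorElement_def]; group,
        mem_centralizer_iff.1 hc k (comp_eq d mb L ▸ hk), mul_inv_cancel_right, ih, pow_succ]
  obtain ⟨e, he⟩ := d.q0_pgroup ⟨⁅k, l⁆, L.R_le_q0 (hL k hk).1⟩
  have h1 := hpow (orderOf k)
  rw [pow_orderOf_eq_one, commutatorElement_one_left] at h1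
  have h2 : ⁅k, l⁆ = 1 := orderOf_eq_one_iff.1 (Nat.eq_one_of_dvd_coprimes (ho.pow_right e)
    (orderOf_dvd_of_pow_eq_one h1.symm) (orderOf_dvd_of_pow_eq_one (congrArg Subtype.val he)))
  exact (commutatorElement_eq_one_iff_mul_comm.1 h2).symm

end Pair

section Block

variable {i : Fin r} {F : Type} [Field F] [Fintype F] {X A : Subgroup G}
  (mb : Member T m E i (E i) F X) (L : Loc F T X A)
include mb L

theorem WZ_inf_cent : (wQ X ⊔ zQ X) ⊓ centralizer (Cfsg.pResidualOf 3 X : Set G) = zQ X := by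
  refine le_antisymm ?_ (le_inf le_sup_right inf_le_right)
  rintro x ⟨hx, hc⟩
  obtain ⟨w, hw, z, hz, rfl⟩ := CfsgLib.Coprime.mem_sup_exists (H := zQ X) (N := wQ X)
    (fun z hz => centralizer_le_normalizer _ (mem_centralizer_iff.2 fun w hw =>
      (L.W_fix w hw z (L.R_le_q0 hz.1)).eq)) hx
  have h : w ∈ wQ X ⊓ centralizer (Cfsg.pResidualOf 3 X : Set G) :=
    ⟨hw, by simpa using (centralizer (Cfsg.pResidualOf 3 X : Set G)).mul_mem hc ((centralizer (Cfsg.pResidualOf 3 X : Set G)).inv_mem hz.2)⟩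
  rw [L.W_inf, mem_bot] at h
  rwa [h, one_mul]

theorem isBlock : Cfsg.IsBaumannBlock 3 (T : Subgroup G) (comp m E i) := by
  classical
  haveI := charF d mb L
  obtain ⟨e, -, he⟩ := FiniteField.card F 3
  rw [comp_eq d mb L]
  have hself : Cfsg.pResidualOf 3 X ≤ normalizer (Cfsg.pResidualOf 3 X : Set G) := le_normalizer
  have hWZ := hself.trans fun z hz => mem_normalizer_WZ d L hz
  have hR : Cfsg.pResidualOf 3 X ≤ normalizer (rQ X : Set G) := fun z hz => by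
    have h := CfsgLib.JComp.normalizer_le_normalizer_pCoreOf (p := 3) _ (hself hz)
    rwa [L.core] at h
  refine ⟨res_res _, mb.res_comm_bT, ?_, ?_, ?_⟩
  · rw [L.core, L.comm_RK]
  · intro h
    refine d.hyp.moved ⟨fun z hz x => ?_⟩
    have htop : (⊤ : Subgroup G) ≤ centralizer (Cfsg.omegaOneCenter 3 (T : Subgroup G) : Set G) := by
      rw [← mb.res_sup_sylow]
      exact sup_le (commutator_eq_bot_iff_le_centralizer.1 h)
        (le_centralizer_iff.1 ((CfsgLib.BaumannBlock.omegaOneCenter_le 3 _).trans inf_le_right))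
    rw [← mem_centralizer_iff.1 (htop (mem_top x)) z hz, mul_inv_cancel_right]
    exact hz
  refine Or.inl ⟨F, inferInstance, inferInstance, (e : ℕ), he, L.quot, ?_, Or.inr ⟨rfl, ?_, ?_, ?_, ?_, ?_, ?_⟩⟩
  all_goals try rw [L.core]
  all_goals try rw [L.omega]
  · rw [WZ_inf_cent d mb L]
    obtain ⟨ρ, ψ, hψ, hψ1, hρ, heq⟩ := L.natW
    exact ⟨hWZ, le_sup_right, ρ, ψ, hρ, hψ, hψ1, fun k u =>
      ⟨⟨_, (mem_normalizer_iff.1 (hWZ k.2) _).1 u.2⟩, rfl, heq k u _ rfl⟩⟩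
  · obtain ⟨ρ, ψ, hψ, hψ1, -, hρ, heq⟩ := L.natR
    exact ⟨hR, sup_le L.W_le inf_le_left, ρ, ψ, hρ, hψ, hψ1, fun k u =>
      ⟨⟨_, (mem_normalizer_iff.1 (hR k.2) _).1 u.2⟩, rfl, heq k u _ rfl⟩⟩
  · rw [WZ_inf_cent d mb L]
    exact L.Z_eq.symm
  · rw [WZ_inf_cent d mb L]
    exact L.Fr_R
  · rw [WZ_inf_cent d mb L, L.K_cent]
  · rw [L.K_cent, L.card_Z, he]
  · intro b hb hbc hle
    obtain ⟨x, hx, hne⟩ := L.cubic b hb hbc
    refine hne ?_
    rw [← L.K_cent]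
    exact hle (commutator_mem_commutator (commutator_mem_commutator hx (mem_zpowers b)) (mem_zpowers b))

end Block

/-- With two natural steps the residuals of the components are blocks. -/
theorem blocks_of_shapeTwo (hm : ∀ i, ∃ (F : Type) (_ : Field F) (_ : Fintype F) (X : Subgroup G),
    Member T m E i (E i) F X ∧ ∃ a b : ↥(bT T), ¬ Commute a ⁅a, b⁆) : Blocks T m E := by
  have hloc : ∀ i, ∃ (F : Type) (_ : Field F) (_ : Fintype F) (X A : Subgroup G),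
      Member T m E i (E i) F X ∧ Loc F T X A := fun i => by
    obtain ⟨F, iF, iFf, X, mb, hab⟩ := hm i
    obtain ⟨A, L⟩ := exists_loc d mb hab
    exact ⟨F, iF, iFf, X, A, mb, L⟩
  refine ⟨?_, fun i => ?_, fun i j hij => ?_⟩
  · obtain ⟨F, _, _, X, A, mb, L⟩ := hloc ⟨0, d.frame.parts.pos⟩
    exact cent_eq d mb L
  · obtain ⟨F, _, _, X, A, mb, L⟩ := hloc i
    exact isBlock d mb L
  · obtain ⟨F, _, _, X, A, mb, L⟩ := hloc i
    obtain ⟨F', _, _, X', A', mb', L'⟩ := hloc j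
    exact comp_comm d hij mb L mb' L'

omit d in
/-- If `Φ(B)` is not central in `B` the residuals of the components are blocks. -/
theorem _root_.CfsgLib.CFun.MinParab.Push.Data.blocks_of_not_one {G : Type u} [Group G] [Finite G] {p : ℕ}
    [hp : Fact p.Prime] {T : Sylow p G} {M : Subgroup G} {H : Type v} [Group H] [Finite H] {U : Type w}
    [AddCommGroup U] [Finite U] [DistribMulAction H U] {m : Glue.Mdl (vQ p G) ⊤ H U} {q n r : ℕ}
    {S : Sylow p H} {E : Fin r → Subgroup H} (d : Data T M m q n r S E) (hone : ¬ IsOne T) :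
    Blocks T m E := by
  have hall : ∀ i, ∃ (F : Type) (_ : Field F) (_ : Fintype F) (X : Subgroup G) (L : Subgroup H),
      p = 3 ∧ Fintype.card F = q ∧ Member T m E i L F X ∧ ∃ a b : ↥(bT T), ¬ Commute a ⁅a, b⁆ := fun i => by
    obtain ⟨A, L, R, g, F, iF, iFf, X, -, hF, mb⟩ := d.exists_member_at i
    rcases mb.shape with ⟨-, h, -⟩ | ⟨h3, -, hab⟩
    · exact absurd h hone
    · exact ⟨F, iF, iFf, X, L, h3, hF, mb, hab⟩
  obtain ⟨-, -, -, -, -, hp3, -⟩ := hall ⟨0, d.frame.parts.pos⟩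
  subst hp3
  refine blocks_of_shapeTwo d fun i => ?_
  obtain ⟨F, iF, iFf, X, L, -, hF, mb, hab⟩ := hall i
  refine ⟨F, iF, iFf, X, ?_, hab⟩
  obtain ⟨hq, hqn, hE⟩ : 2 < q ∧ q = 3 ^ n ∧ Rec.IsNat2 U q (E i) := by
    rcases d.nat i with h | ⟨-, h, -⟩
    · exact h
    · omega
  obtain ⟨F₁, _, _, hF₁, ρ₁, -⟩ := hE
  obtain ⟨F₂, _, _, hF₂, ρ₂, -⟩ := mb.nat
  have hL : L = E i := Subgroup.eq_of_le_of_card_ge mb.part_le (le_of_eq (by
    rw [Nat.card_congr ρ₁.toEquiv, Nat.card_congr ρ₂.toEquiv, CfsgLib.Classical.card_sl2,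
      CfsgLib.Classical.card_sl2, hF₁, hF₂, hF]))
  exact hL ▸ mb

end CfsgLib.CFun.MinParab.Push.Two
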