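import Cfsg.Agent.Lib.CFun.MinParab.Push.Two.Three

/-!
# Pushing up with two natural steps: `C_G(V) = O_p(G)`

`O^p(G)` centralizes the image of `O^p(C_G(V))` on the module, so that image acts on the upper layer of a
member as scalars, which the cubic map forces to be trivial.
-/

set_option autoImplicit false
set_option linter.unusedSectionVars false
set_option linter.style.haveILetI false

open Subgroup
open scoped commutatorElement MatrixGroups
open CfsgLib.PushUp (Fr)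
open CfsgLib.PushAmalgam.TwoLayer (comm_mul_conj comm_conj_mul)

namespace CfsgLib.CFun.MinParab.Push.Two

universe u v w

variable {G : Type u} [Group G] [Finite G] {T : Sylow 3 G} {M : Subgroup G}
  {H : Type v} [Group H] [Finite H] {U : Type w} [AddCommGroup U] [Finite U] [DistribMulAction H U]
  {m : Glue.Mdl (vQ 3 G) ⊤ H U} {q n r : ℕ} {S : Sylow 3 H} {E : Fin r → Subgroup H}

variable (d : Data T M m q n r S E)
include d

section Member

variable {i : Fin r} {L₀ : Subgroup H} {F : Type} [Field F] [Fintype F] {X A : Subgroup G}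
  (mb : Member T m E i L₀ F X) (L : Loc F T X A)
include mb L

theorem charF : CharP F 3 := by
  obtain ⟨e, he⟩ := IsPGroup.iff_card.1
    (d.bT_el.pgroup.to_le (inf_le_left : img m (bT T) ⊓ L₀ ≤ img m (bT T)))
  exact (CfsgLib.PushUp.charP_of_card (p := 3) (n := e) (mb.inf_bT.symm.trans he)).1

theorem root_cent {a c : G} (ha : a ∈ A) (hc : c ∈ oC G) : inKer T ⁅c, a⁆ := by
  by_cases hF : Fintype.card F = 3
  · exact root_cent_three d L hF ha hc
  · exact root_cent_big d L hF ha hc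

/-- `O^p(G)` centralizes `O^p(C_G(V))` modulo the kernel. -/
theorem res_cent {x c : G} (hx : x ∈ Cfsg.pResidualOf 3 (⊤ : Subgroup G)) (hc : c ∈ oC G) :
    inKer T ⁅c, x⁆ := by
  haveI := nQ_normal d
  haveI := d.q0_normal
  haveI := oC_normal d
  haveI hkn : (kQ T).Normal := centMod_normal _ _
  haveI := centMod_normal (oC G) (kQ T)
  have hflip : ∀ y, (∀ c' ∈ oC G, inKer T ⁅c', y⁆) → y ∈ centMod (oC G) (kQ T) := fun y hy =>
    mem_centMod.2 fun c' hc' => by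
      rw [← commutatorElement_inv]; exact inv_mem (mem_centMod.2 (hy c' hc'))
  obtain ⟨a, ha, hna⟩ := L.A_moves
  have h1 := L.A_gen (centMod (oC G) (kQ T)) inferInstance a ha hna
    (hflip a fun c' hc' => root_cent d mb L ha hc')
  have h2 := mem_centMod.1 (d.res_top_le mb h1 hx) c hc
  intro z hz
  refine mem_centMod.1 (show ⁅c, x⁆ ∈ kQ T from ?_) z hz
  rw [← commutatorElement_inv]; exact inv_mem h2

/-- `O^p(C_G(V))` centralizes the upper layer modulo `W₀ V Φ`. -/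
theorem upper_fix {c r₀ : G} (hc : c ∈ oC G) (hr₀ : r₀ ∈ rQ X) : ⁅c, r₀⁆ ∈ nQ T := by
  classical
  haveI := nQ_normal d
  haveI := d.q0_normal
  haveI := Fr_normal d
  haveI hkn : (kQ T).Normal := centMod_normal _ _
  haveI := charF d mb L
  obtain ⟨π, hπ⟩ : ∃ π, π = QuotientGroup.mk' (nQ T) := ⟨_, rfl⟩
  have hπ1 : ∀ y, π y = 1 ↔ y ∈ nQ T := fun y => hπ ▸ QuotientGroup.eq_one_iff y
  obtain ⟨ρ, ψ, hψ, hψ1, hfour, -, heq⟩ := L.natR
  have hcK : ∀ k ∈ Cfsg.pResidualOf 3 X, inKer T ⁅c, k⁆ :=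
    fun k hk => res_cent d mb L (res_mono le_top hk) hc
  have hKR : ∀ k ∈ Cfsg.pResidualOf 3 X, ∀ x ∈ rQ X, k * x * k⁻¹ ∈ rQ X := fun k hk x hx => by
    rw [show k * x * k⁻¹ = ⁅x, k⁆⁻¹ * x by rw [commutatorElement_def]; group]
    exact mul_mem (inv_mem (L.comm_RK.le (commutator_mem_commutator hx hk))) hx
  -- `c` normalizes the upper layer modulo `W₀ V Φ`
  have hstab : ∀ x ∈ rQ X, π c * π x * (π c)⁻¹ ∈ (rQ X).map π := by
    suffices hle : rQ X ≤ ((rQ X).map π).comap ((MulAut.conj (π c)).toMonoidHom.comp π) from fun x hx => hle hx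
    rw [← L.comm_RK]
    refine commutator_le.2 fun x hx k hk => ?_
    rw [mem_comap, L.comm_RK]
    obtain ⟨x', hx'⟩ : ∃ x', x' = c * x * c⁻¹ := ⟨_, rfl⟩
    have hx'q : x' ∈ q0 T := hx' ▸ Normal.conj_mem inferInstance x (L.R_le_q0 hx) c
    have e1 : (MulAut.conj (π c)).toMonoidHom.comp π ⁅x, k⁆ = π ⁅x', ⁅c, k⁆ * k⁆ := by
      simp only [MonoidHom.comp_apply, MulEquiv.coe_toMonoidHom, MulAut.conj_apply, ← map_inv, ← map_mul, hx']
      congr 1
      simp only [commutatorElement_def]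
      group
    rw [e1, comm_conj_mul, map_mul]
    have h1 : π ⁅x', ⁅c, k⁆⁆ = 1 := by
      rw [hπ1, ← commutatorElement_inv]
      exact inv_mem (hcK k hk x' hx'q)
    have h2 : ⁅x', k⁆ ∈ rQ X := L.q0_K (commutator_mem_commutator hx'q hk)
    rw [h1, one_mul, map_mul, map_mul, map_inv]
    refine ⟨⁅x', k⁆, h2, ?_⟩
    have h3 : ⁅⁅c, k⁆, ⁅x', k⁆⁆ ∈ nQ T := hcK k hk _ (L.R_le_q0 h2)
    rw [← hπ1, map_commutatorElement, commutatorElement_eq_one_iff_commute] at h3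
    rw [h3.eq, mul_inv_cancel_right]
  have hψπ : ∀ u u' : ↥(rQ X), ψ u = ψ u' ↔ π (u : G) = π u' := fun u u' => by
    rw [← inv_mul_eq_one, ← map_inv, ← map_mul, hψ1, ← inv_mul_eq_one (a := π (u : G)), ← map_inv,
      ← map_mul, hπ1]
    exact ⟨fun h => L.WZ_le h, fun h => L.R_inf ⟨(u⁻¹ * u').2, h⟩⟩
  obtain ⟨σ, hσ⟩ := hψ.hasRightInverse
  have himg : ∀ w : Fin 2 → F, ∃ u : ↥(rQ X),
      π (u : G) = π c * π (σ (Multiplicative.ofAdd w) : G) * (π c)⁻¹ := fun w => by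
    obtain ⟨u, hu, e⟩ := hstab _ (σ (Multiplicative.ofAdd w)).2
    exact ⟨⟨u, hu⟩, e⟩
  choose f hf using himg
  have hf' : ∀ (x : ↥(rQ X)) (u : ↥(rQ X)), π (u : G) = π c * π (x : G) * (π c)⁻¹ →
      ψ u = ψ (f (Multiplicative.toAdd (ψ x))) := fun x u e => by
    rw [hψπ, hf, e]
    congr 2
    exact (hψπ _ _).1 (hσ _).symm
  obtain ⟨φ, hφ⟩ : ∃ φ : (Fin 2 → F) →+ (Fin 2 → F), ∀ w, φ w = Multiplicative.toAdd (ψ (f w)) := by
    refine ⟨AddMonoidHom.mk' (fun w => Multiplicative.toAdd (ψ (f w))) fun w w' => ?_, fun _ => rfl⟩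
    rw [← toAdd_mul, ← map_mul]
    congr 1
    have h : π (σ (Multiplicative.ofAdd (w + w')) : G) =
        π (σ (Multiplicative.ofAdd w) : G) * π (σ (Multiplicative.ofAdd w') : G) := by
      rw [← map_mul π, ← Subgroup.coe_mul]
      exact (hψπ _ _).1 (by rw [map_mul, hσ, hσ, hσ, ofAdd_add])
    rw [hψπ, Subgroup.coe_mul, map_mul, hf, hf, hf, conj_mul, h]
  have hψσ : ∀ w : Fin 2 → F, Multiplicative.toAdd (ψ (σ (Multiplicative.ofAdd w))) = w := fun w => by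
    rw [hσ, toAdd_ofAdd]
  have hφg : ∀ g : SL(2, F), g ^ 4 = 1 → ∀ w, φ (g.1.mulVec w) = g.1.mulVec (φ w) := by
    intro g hg w
    obtain ⟨k, rfl⟩ := hfour g hg
    obtain ⟨u, hu⟩ : ∃ u : ↥(rQ X), (u : G) = (k : G) * (σ (Multiplicative.ofAdd w) : G) * (k : G)⁻¹ :=
      ⟨⟨_, hKR _ k.2 _ (σ (Multiplicative.ofAdd w)).2⟩, rfl⟩
    obtain ⟨u', hu'⟩ : ∃ u' : ↥(rQ X), (u' : G) = (k : G) * (f w : G) * (k : G)⁻¹ :=
      ⟨⟨_, hKR _ k.2 _ (f w).2⟩, rfl⟩
    have e1 := heq k _ u hu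
    rw [hψσ] at e1
    have e2 := heq k _ u' hu'
    rw [← hφ] at e2
    rw [← e1, ← e2, hφ]
    congr 1
    refine (hf' u u' ?_).symm
    have hcom : ∀ z ∈ q0 T, π c * (π (k : G) * π z * (π (k : G))⁻¹) * (π c)⁻¹ =
        π (k : G) * (π c * π z * (π c)⁻¹) * (π (k : G))⁻¹ := by
      intro z hz
      obtain ⟨z', hz'⟩ : ∃ z', z' = (k : G) * (c * z * c⁻¹) * (k : G)⁻¹ := ⟨_, rfl⟩
      have h1 := hcK _ k.2 z' (hz' ▸ Normal.conj_mem inferInstance _ (Normal.conj_mem inferInstance z hz c) _)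
      rw [← hπ1, map_commutatorElement, commutatorElement_eq_one_iff_mul_comm, hz'] at h1
      simp only [map_mul, map_inv, map_commutatorElement, commutatorElement_def] at h1
      have h2 := mul_inv_eq_iff_eq_mul.2 h1
      rw [← h2]
      group
    rw [hu', map_mul, map_mul, map_inv, hf, hu, map_mul, map_mul, map_inv]
    exact (hcom _ (L.R_le_q0 (σ (Multiplicative.ofAdd w)).2)).symm
  obtain ⟨μ, hμ⟩ := PushAmalgam.SLThree.exists_scalar φ hφg
  by_cases hμ1 : μ = 1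
  · obtain ⟨u, hu, e⟩ := hstab r₀ hr₀
    have h1 := hf' ⟨r₀, hr₀⟩ ⟨u, hu⟩ e
    have h2 : Multiplicative.toAdd (ψ ⟨u, hu⟩) = Multiplicative.toAdd (ψ ⟨r₀, hr₀⟩) := by
      rw [h1, ← hφ, hμ, hμ1, one_smul]
    have h3 := (hψπ _ _).1 (Multiplicative.toAdd.injective h2)
    rw [← hπ1, map_commutatorElement, commutatorElement_def]
    rw [show π c * π r₀ * (π c)⁻¹ = π u from e.symm]
    exact mul_inv_eq_one.2 h3
  exfalso
  obtain ⟨a, ha, hna⟩ := L.A_moves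
  obtain ⟨y, hy, hne⟩ := L.cub_ne a ha hna
  refine hne ?_
  obtain ⟨x, hx⟩ := hψ (Multiplicative.ofAdd ((μ - 1)⁻¹ • Multiplicative.toAdd (ψ ⟨y, hy⟩)))
  obtain ⟨u, hu, e⟩ := hstab _ x.2
  have h1 : ψ ⟨y, hy⟩ = ψ (⟨u, hu⟩ * x⁻¹) := Multiplicative.toAdd.injective (by
    rw [map_mul, map_inv, toAdd_mul, toAdd_inv, hf' x ⟨u, hu⟩ e, ← hφ, hμ, hx, toAdd_ofAdd, smul_smul,
      ← sub_eq_add_neg, ← sub_smul, ← sub_one_mul, mul_inv_cancel₀ (sub_ne_zero.2 hμ1), one_smul])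
  have h2 := (hψπ _ _).1 h1
  rw [Subgroup.coe_mul, Subgroup.coe_inv, map_mul, map_inv] at h2
  rw [show π u = π (c * (x : G) * c⁻¹) by rw [map_mul, map_mul, map_inv]; exact e, ← map_inv, ← map_mul] at h2
  have hcxq : c * (x : G) * c⁻¹ ∈ q0 T := Normal.conj_mem inferInstance _ (L.R_le_q0 x.2) c
  obtain ⟨z, hz⟩ : ∃ z, z = c * (x : G) * c⁻¹ * (x : G)⁻¹ := ⟨_, rfl⟩
  rw [← hz] at h2
  have hzq : z ∈ q0 T := hz ▸ mul_mem hcxq (inv_mem (L.R_le_q0 x.2))
  have hzc : ⁅a, ⁅a, z⁆⁆ ∈ Fr (q0 T) := by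
    have h3 : ⁅a, ⁅a, z⁆⁆ * ⁅a, ⁅a, (x : G)⁆⁆ = ⁅a, ⁅a, c * (x : G) * c⁻¹⁆⁆ := by
      rw [← L.cub_mul a ha _ hzq _ (L.R_le_q0 x.2), hz, inv_mul_cancel_right]
    have h4 := cub_conj d L ha hc (root_cent d mb L ha hc) (L.R_le_q0 x.2)
    rwa [← h3, mul_inv_cancel_right] at h4
  obtain ⟨t, ht⟩ : ∃ t, t = y * z⁻¹ := ⟨_, rfl⟩
  have htn : t ∈ nQ T := by
    rw [← hπ1, ht, map_mul, map_inv]
    exact mul_inv_eq_one.2 h2
  have htc : ⁅a, ⁅a, t⁆⁆ ∈ Fr (q0 T) := L.cub_fix a ha _ (nQ_le d htn) (by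
    rw [commutatorElement_def]; exact mul_mem (Normal.conj_mem inferInstance _ htn a) (inv_mem htn))
  rw [show y = t * z by rw [ht, inv_mul_cancel_right], L.cub_mul a ha _ (nQ_le d htn) _ hzq]
  exact mul_mem htc hzc

/-- `C_G(V) = O_p(G)`. -/
theorem cent_eq : centralizer (vQ 3 G : Set G) = Cfsg.pCore 3 G := by
  classical
  haveI := nQ_normal d
  haveI := d.q0_normal
  haveI := oC_normal d
  refine le_antisymm ?_ (le_centralizer_iff.1 Glue.Setting.omega_le_centralizer)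
  refine d.mem_pCore_of_cent (CfsgLib.BlockCent.isPGroup_of_coprime fun c hc ho => ?_) le_rfl
  have hcO : c ∈ oC G := mem_res hc ho
  have hcC : c ∈ centralizer (vQ 3 G : Set G) := hc
  -- the elements fixed by the whole residual
  obtain ⟨π, hπ⟩ : ∃ π, π = QuotientGroup.mk' (nQ T) := ⟨_, rfl⟩
  have hπc : ∀ x y, ⁅x, y⁆ ∈ nQ T ↔ Commute (π x) (π y) := fun x y => by
    rw [← commutatorElement_eq_one_iff_commute, ← map_commutatorElement, hπ, QuotientGroup.mk'_apply,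
      QuotientGroup.eq_one_iff]
  obtain ⟨Sf, hSf⟩ : ∃ Sf, Sf = q0 T ⊓ (centralizer ((oC G).map π : Set (G ⧸ nQ T))).comap π := ⟨_, rfl⟩
  haveI : ((oC G).map π).Normal := Subgroup.Normal.map inferInstance π (hπ ▸ QuotientGroup.mk'_surjective _)
  haveI : Sf.Normal := hSf ▸ inferInstance
  have hRS : rQ X ≤ Sf := by
    intro x hx
    rw [hSf]
    refine ⟨L.R_le_q0 hx, mem_centralizer_iff.2 ?_⟩
    rintro _ ⟨c', hc', rfl⟩
    exact ((hπc _ _).1 (upper_fix d mb L hc' hx)).eq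
  haveI := centMod_normal (q0 T) Sf
  have hK : Cfsg.pResidualOf 3 X ≤ centMod (q0 T) Sf := fun k hk => mem_centMod.2 fun z hz => by
    rw [← commutatorElement_inv]
    exact inv_mem (hRS (L.q0_K (commutator_mem_commutator hz hk)))
  refine eq_one_of_inKer d hcC ho fun z hz => ?_
  have h1 : ⁅c, z⁆ ∈ Sf := mem_centMod.1 (d.res_top_le mb hK (mem_res (mem_top c) ho)) z hz
  obtain ⟨k, hk, hck⟩ := exists_pow_inKer d hcO
  refine fix_of_series d hk hck hz ((hπc _ _).2 ?_)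
  rw [hSf] at h1
  exact mem_centralizer_iff.1 h1.2 _ (mem_map_of_mem π hcO)

end Member

end CfsgLib.CFun.MinParab.Push.Two
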