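import Cfsg.Agent.Lib.CFun.MinParab.Push.Two.Kernel
import Cfsg.Agent.Lib.Coprime.Action

/-!
# Pushing up with two natural steps: the root elements centralize the kernel on `V`

For `q > 3` by coprime generation, for `q = 3` because two transvections generating `SL₂(3)` give an element
of the kernel inverting a root element's displacement, against the cubic map.
-/

set_option autoImplicit false
set_option linter.unusedSectionVars false
set_option linter.style.haveILetI false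

open Subgroup
open scoped commutatorElement MatrixGroups
open CfsgLib.PushUp (Fr)
open CfsgLib.PushAmalgam (pow_mem_Fr)
open CfsgLib.PushAmalgam.TwoLayer (comm_mul_conj comm_conj_mul)

namespace CfsgLib.CFun.MinParab.Push.Two

universe u v w

variable {G : Type u} [Group G] [Finite G] {T : Sylow 3 G} {M : Subgroup G}
  {H : Type v} [Group H] [Finite H] {U : Type w} [AddCommGroup U] [Finite U] [DistribMulAction H U]
  {m : Glue.Mdl (vQ 3 G) ⊤ H U} {q n r : ℕ} {S : Sylow 3 H} {E : Fin r → Subgroup H}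

/-- `O^p(C_G(V))`. -/
abbrev oC (G : Type u) [Group G] : Subgroup G := Cfsg.pResidualOf 3 (centralizer (vQ 3 G : Set G))

variable (d : Data T M m q n r S E)
include d

theorem oC_normal : (oC G).Normal := by
  haveI := Glue.Setting.omega_normal (G := G) (p := 3)
  exact normalizer_eq_top_iff.1 (top_le_iff.1
    ((normalizer_eq_top_iff.2 (inferInstance : (centralizer (vQ 3 G : Set G)).Normal)).ge.trans
      (CfsgLib.Char.TW.normalizer_le_pResidualOf 3 _)))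

section Root

variable {F : Type} [Field F] [Fintype F] {X A : Subgroup G} (L : Loc F T X A)
include L

/-- `q > 3`: an element centralizing one root element centralizes all of them. -/
theorem comm_inKer {a b c : G} (ha : a ∈ A) (hna : ¬ inKer T a) (hb : b ∈ A) (hc : c ∈ oC G)
    (hca : inKer T ⁅c, a⁆) : inKer T ⁅c, b⁆ := by
  classical
  haveI := nQ_normal d
  haveI := d.q0_normal
  haveI := oC_normal d
  haveI hkn : (kQ T).Normal := centMod_normal _ _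
  obtain ⟨π, hπ⟩ : ∃ π, π = QuotientGroup.mk' (nQ T) := ⟨_, rfl⟩
  have hπ1 : ∀ y, π y = 1 ↔ y ∈ nQ T := fun y => hπ ▸ QuotientGroup.eq_one_iff y
  have hcomm : ∀ x y, ⁅x, y⁆ ∈ nQ T ↔ Commute (π x) (π y) := fun x y => by
    rw [← hπ1, map_commutatorElement, commutatorElement_eq_one_iff_commute]
  have hk : ∀ {x}, x ∈ kQ T → ∀ {z}, z ∈ q0 T → Commute (π x) (π z) :=
    fun hx _ hz => (hcomm _ _).1 (mem_centMod.1 hx _ hz)
  obtain ⟨Fx, hFx⟩ : ∃ Fx, Fx = q0 T ⊓ (centralizer ({π a} : Set (G ⧸ nQ T))).comap π := ⟨_, rfl⟩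
  have hF : ∀ x, x ∈ Fx ↔ x ∈ q0 T ∧ ⁅a, x⁆ ∈ nQ T := fun x => by
    rw [hFx, mem_inf, mem_comap, mem_centralizer_singleton_iff, hcomm]
    exact and_congr_right fun _ => ⟨fun e => e.symm, fun e => e.symm⟩
  -- `c` normalizes the fixed points
  have hFc : ∀ c' : G, inKer T ⁅c', a⁆ → ∀ x ∈ Fx, c' * x * c'⁻¹ ∈ Fx := by
    intro c' hc' x hx
    obtain ⟨hx0, hx1⟩ := (hF x).1 hx
    have hcx : c' * x * c'⁻¹ ∈ q0 T := Normal.conj_mem inferInstance x hx0 c'
    refine (hF _).2 ⟨hcx, (hcomm _ _).2 ?_⟩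
    have h1 : Commute (π (⁅c', a⁆ * a)) (π (c' * x * c'⁻¹)) := by
      rw [show ⁅c', a⁆ * a = c' * a * c'⁻¹ by rw [commutatorElement_def]; group]
      rw [map_mul, map_mul, map_inv, map_mul, map_mul, map_inv]
      exact ((hcomm _ _).1 hx1).conj (π c')
    rw [map_mul] at h1
    have h2 := (hk (mem_centMod.2 hc') hcx).inv_left.mul_left h1
    rwa [inv_mul_cancel_left] at h2
  have hci : inKer T ⁅c⁻¹, a⁆ := fun z hz => mem_centMod.1 (show ⁅c⁻¹, a⁆ ∈ kQ T by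
    rw [show ⁅c⁻¹, a⁆ = c⁻¹ * ⁅c, a⁆⁻¹ * c⁻¹⁻¹ by simp only [commutatorElement_def]; group]
    exact Normal.conj_mem inferInstance _ (inv_mem (mem_centMod.2 hca)) _) z hz
  obtain ⟨γ, hγ⟩ : ∃ γ, γ = ⁅c, b⁆ := ⟨_, rfl⟩
  rw [← hγ]
  have hγO : γ ∈ oC G := by
    rw [hγ, show ⁅c, b⁆ = c * (b * c⁻¹ * b⁻¹) by rw [commutatorElement_def]; group]
    exact mul_mem hc (Normal.conj_mem inferInstance _ (inv_mem hc) b)
  obtain ⟨k, hk3, hγk⟩ := exists_pow_inKer d hγO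
  have hb' : ∀ x ∈ Fx, Commute (π b) (π x) := fun x hx => (hcomm _ _).1
    (L.fix_all a ha hna x ((hF x).1 hx).1 ((hF x).1 hx).2 b hb)
  have hfixγ : ∀ x ∈ Fx, Commute (π γ) (π x) := by
    intro x hx
    have h1 : Commute (π (c * b * c⁻¹)) (π x) := by
      have h2 := (hb' _ (hFc _ hci x hx)).conj (π c)
      simp only [map_mul, map_inv, inv_inv] at h2 ⊢
      convert h2 using 1
      group
    have h3 := h1.mul_left (hb' x hx).inv_left
    rw [← map_inv, ← map_mul] at h3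
    rwa [hγ, commutatorElement_def]
  intro z hz
  refine fix_of_series d hk3 hγk hz ((hcomm _ _).2 (hfixγ _ ?_))
  have hmove : ∀ t ∈ A, ∀ y ∈ q0 T, ⁅t, y⁆ ∈ Fx := fun t ht y hy =>
    (hF _).2 ⟨mul_mem (Normal.conj_mem inferInstance y hy t) (inv_mem hy), L.line_fix t ht a ha y hy⟩
  rw [hγ, show ⁅⁅c, b⁆, z⁆ = (c * b * c⁻¹) * ⁅b⁻¹, z⁆ * (c * b * c⁻¹)⁻¹ * ⁅c * b * c⁻¹, z⁆ by
    simp only [commutatorElement_def]; group]
  refine mul_mem ?_ ?_
  · rw [show (c * b * c⁻¹) * ⁅b⁻¹, z⁆ * (c * b * c⁻¹)⁻¹ = c * (b * (c⁻¹ * ⁅b⁻¹, z⁆ * c⁻¹⁻¹) * b⁻¹) * c⁻¹ by group]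
    refine hFc c hca _ ?_
    have h5 := hFc _ hci _ (hmove _ (inv_mem hb) z hz)
    have h6 : ⁅b, c⁻¹ * ⁅b⁻¹, z⁆ * c⁻¹⁻¹⁆ ∈ Fx :=
      (hF _).2 ⟨mul_mem (Normal.conj_mem inferInstance _ ((hF _).1 h5).1 b) (inv_mem ((hF _).1 h5).1),
        L.line_fix b hb a ha _ ((hF _).1 h5).1⟩
    have h7 := mul_mem h6 h5
    rwa [commutatorElement_def, inv_mul_cancel_right] at h7
  · rw [show ⁅c * b * c⁻¹, z⁆ = c * ⁅b, c⁻¹ * z * c⁻¹⁻¹⁆ * c⁻¹ by simp only [commutatorElement_def]; group]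
    exact hFc c hca _ (hmove b hb _ (Normal.conj_mem inferInstance z hz c⁻¹))

/-- `q > 3`: the root elements centralize `O^p(C_G(V))` modulo the kernel. -/
theorem root_cent_big (hF : Fintype.card F ≠ 3) {a c : G} (ha : a ∈ A) (hc : c ∈ oC G) :
    inKer T ⁅c, a⁆ := by
  classical
  haveI := nQ_normal d
  haveI := oC_normal d
  haveI := d.q0_normal
  haveI hkn : (kQ T).Normal := centMod_normal _ _
  obtain ⟨ξ, hξ⟩ : ∃ ξ, ξ = QuotientGroup.mk' (kQ T) := ⟨_, rfl⟩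
  have hξ1 : ∀ y, ξ y = 1 ↔ inKer T y := fun y => hξ ▸ (QuotientGroup.eq_one_iff y).trans mem_centMod
  have hξc : ∀ x y, inKer T ⁅x, y⁆ ↔ Commute (ξ x) (ξ y) := fun x y => by
    rw [← hξ1, map_commutatorElement, commutatorElement_eq_one_iff_commute]
  have hker : ξ.ker = kQ T := hξ ▸ QuotientGroup.ker_mk' _
  obtain ⟨Ab, hAb⟩ : ∃ Ab, Ab = A.map ξ := ⟨_, rfl⟩
  have hcard : Nat.card ↥Ab = Fintype.card F := by
    rw [hAb, ← relIndex_ker, hker]
    exact L.A_index _ fun b _ => mem_centMod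
  have hexp : ∀ x ∈ Ab, x ^ 3 = 1 := by
    rw [hAb]
    rintro _ ⟨b, hb, rfl⟩
    rw [← map_pow, L.A_elem b hb, map_one]
  haveI : IsMulCommutative ↥Ab := ⟨⟨fun x y => Subtype.ext (by
    obtain ⟨b, hb, hx⟩ := hAb.le x.2
    obtain ⟨b', hb', hy⟩ := hAb.le y.2
    show (x : G ⧸ kQ T) * y = y * x
    rw [← hx, ← hy]
    exact ((L.A_comm b hb b' hb').map ξ).eq)⟩⟩
  have hnc : ¬ IsCyclic ↥Ab := by
    intro hcyc
    obtain ⟨g, hg⟩ := hcyc.exists_generator
    have h1 : Nat.card ↥Ab = orderOf g := (orderOf_eq_card_of_forall_mem_zpowers hg).symm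
    have h2 : orderOf g ∣ 3 := orderOf_dvd_of_pow_eq_one (Subtype.ext (hexp g g.2))
    rw [← h1, hcard] at h2
    rcases (Nat.dvd_prime Nat.prime_three).1 h2 with h3 | h3
    · exact Fintype.one_lt_card.ne' h3
    · exact hF h3
  have hAO : Ab ≤ normalizer (((oC G).map ξ : Subgroup (G ⧸ kQ T)) : Set (G ⧸ kQ T)) := by
    rw [normalizer_eq_top_iff.2 (Subgroup.Normal.map inferInstance ξ (hξ ▸ QuotientGroup.mk'_surjective _))]
    exact le_top
  have hcop : (Nat.card ↥Ab).Coprime (Nat.card ↥((oC G).map ξ)) := by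
    have h3 : ¬ 3 ∣ Nat.card ↥((oC G).map ξ) := by
      intro h3
      obtain ⟨⟨_, x, hx, rfl⟩, ho⟩ := exists_prime_orderOf_dvd_card' 3 h3
      obtain ⟨k, hk, hxk⟩ := exists_pow_inKer d hx
      replace ho : orderOf (ξ x) = 3 := (Subgroup.orderOf_mk _ _).symm.trans ho
      have h4 : orderOf (ξ x) ∣ k := orderOf_dvd_of_pow_eq_one (by rw [← map_pow, (hξ1 _).2 hxk])
      rw [ho] at h4
      exact (Nat.Prime.coprime_iff_not_dvd Nat.prime_three).1 hk.symm h4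
    obtain ⟨e, he⟩ := IsPGroup.iff_card.1 (show IsPGroup 3 ↥Ab from fun x =>
      ⟨1, Subtype.ext (by rw [pow_one]; exact hexp x x.2)⟩)
    rw [he]
    exact ((Nat.Prime.coprime_iff_not_dvd Nat.prime_three).2 h3).pow_left e
  have key : (oC G).map ξ ≤ centralizer (Ab : Set (G ⧸ kQ T)) := by
    refine CfsgLib.Coprime.le_of_centralizers_le hnc hAO hcop fun x hx hx1 => ?_
    rw [hAb] at hx
    obtain ⟨b₀, hb₀, rfl⟩ := hx
    rintro _ ⟨⟨c', hc', rfl⟩, hcc⟩
    rw [hAb]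
    refine mem_centralizer_iff.2 ?_
    rintro _ ⟨b, hb, rfl⟩
    refine ((hξc _ _).1 (comm_inKer d L hb₀ (fun hn => hx1 ((hξ1 _).2 hn)) hb hc' ((hξc _ _).2 ?_))).symm
    exact mem_centralizer_singleton_iff.1 hcc
  exact (hξc _ _).2 (mem_centralizer_iff.1 (key (mem_map_of_mem ξ hc)) _ (hAb ▸ mem_map_of_mem ξ ha)).symm

end Root

end CfsgLib.CFun.MinParab.Push.Two
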