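import Cfsg.Agent.Lib.CFun.MinParab.Push.Two.Local
import Cfsg.Agent.Lib.CFun.MinParab.Push.Lin

/-!
# Pushing up with two natural steps: the kernel on `V` and the module `(B ∩ O_p(G)) / W₀ V Φ`

The elements of order prime to `3` of `C_G(V)` act faithfully on this module, as a `3'`-group.
-/

set_option autoImplicit false
set_option linter.unusedSectionVars false
set_option linter.style.haveILetI false

open Subgroup
open scoped commutatorElement MatrixGroups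
open CfsgLib.PushUp (Fr)
open CfsgLib.PushAmalgam (comm_mem_Fr pow_mem_Fr Fr_le_self normalizer_le_Fr)

namespace CfsgLib.CFun.MinParab.Push.Two

universe u v w

variable {G : Type u} [Group G] [Finite G] {T : Sylow 3 G} {M : Subgroup G}
  {H : Type v} [Group H] [Finite H] {U : Type w} [AddCommGroup U] [Finite U] [DistribMulAction H U]
  {m : Glue.Mdl (vQ 3 G) ⊤ H U} {q n r : ℕ} {S : Sylow 3 H} {E : Fin r → Subgroup H}

/-- The elements moving `B ∩ O_p(G)` only inside `W₀ V Φ`. -/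
abbrev inKer (T : Sylow 3 G) (x : G) : Prop := ∀ z ∈ q0 T, ⁅x, z⁆ ∈ nQ T

/-- The kernel as a subgroup. -/
abbrev kQ (T : Sylow 3 G) [(nQ T).Normal] : Subgroup G := centMod (q0 T) (nQ T)

variable (d : Data T M m q n r S E)
include d

theorem Fr_normal : (Fr (q0 T)).Normal := by
  haveI := d.q0_normal
  exact normalizer_eq_top_iff.1 (top_le_iff.1 ((normalizer_eq_top_iff.2 d.q0_normal).ge.trans
    (normalizer_le_Fr _)))

theorem nQ_normal : (nQ T).Normal := by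
  haveI := d.y1_normal
  haveI := Fr_normal d
  infer_instance

theorem nQ_le : nQ T ≤ q0 T := sup_le (sup_le d.w0_le d.vQ_le) (Fr_le_self _)

theorem cube_mem {x : G} (hx : x ∈ q0 T) : x ^ 3 ∈ nQ T :=
  mem_sup_right (pow_mem_Fr d.q0_pgroup hx)

theorem q0_comm {x y : G} (hx : x ∈ q0 T) (hy : y ∈ q0 T) : ⁅x, y⁆ ∈ nQ T :=
  mem_sup_right (comm_mem_Fr d.q0_pgroup hx hy)

/-- `O^p(G)` lies in `J(G)`. -/
theorem res_le_J : Cfsg.pResidualOf 3 (⊤ : Subgroup G) ≤ Cfsg.thompsonSubgroup 3 G := by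
  haveI := Glue.thompsonSubgroup_normal (G := G) (p := 3)
  have h := PushAmalgam.TwoLayer.residual_le_of_sup T.2 (N := Cfsg.thompsonSubgroup 3 G) inferInstance
    (by rw [sup_comm]; exact sylow_sup_J d.setting)
  exact res_le_of fun x _ ho => h (CfsgLib.Fusion.mem_pResidual ho)

/-- The elements of order prime to `3` of `C_G(V)` centralize `W₀ V`. -/
theorem res_cent_y1 : Cfsg.pResidualOf 3 (centralizer (vQ 3 G : Set G)) ≤
    centralizer ((w0 T ⊔ vQ 3 G : Subgroup G) : Set G) := by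
  refine res_le_of fun x hx ho => mem_centralizer_iff.2 fun y hy => ?_
  have ht : ∀ g : G, g ∈ normalizer ((⊥ : Subgroup G) : Set G) := fun g => by
    rw [normalizer_eq_top_iff.2 inferInstance]; exact mem_top g
  have h1 : ⁅x, y⁆ ∈ vQ 3 G := by
    rw [← commutatorElement_inv]
    exact inv_mem (d.y1_comm (commutator_mem_commutator hy (res_le_J d (mem_res (mem_top x) ho))))
  have h2 : ⁅x, ⁅x, y⁆⁆ = 1 :=
    commutatorElement_eq_one_iff_mul_comm.2 (mem_centralizer_iff.1 hx _ h1).symm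
  exact (commutatorElement_eq_one_iff_mul_comm.1 (mem_bot.1 (comm_mem_of_coprime d.q0_pgroup (ht _) (ht _) ho
    (d.vQ_le h1) (mem_bot.2 h2)))).symm

/-- An element of order prime to `3` of `C_G(V)` in the kernel is trivial. -/
theorem eq_one_of_inKer {x : G} (hx : x ∈ centralizer (vQ 3 G : Set G)) (ho : (orderOf x).Coprime 3)
    (hk : inKer T x) : x = 1 := by
  haveI := Fr_normal d
  haveI := d.q0_normal
  have hy1 := res_cent_y1 d (mem_res hx ho)
  have ht : ∀ g : G, g ∈ normalizer (Fr (q0 T) : Set G) := fun g => by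
    rw [normalizer_eq_top_iff.2 inferInstance]; exact mem_top g
  have hxF : x ∈ centMod (q0 T) (Fr (q0 T)) := mem_centMod.2 fun z hz => by
    refine comm_mem_of_coprime d.q0_pgroup (ht _) (ht _) ho (nQ_le d (hk z hz)) ?_
    haveI := d.y1_normal
    obtain ⟨y, hy, f, hf, e⟩ := mem_sup_of_normal_left.1 (hk z hz)
    rw [← e, PushAmalgam.TwoLayer.comm_conj_mul,
      commutatorElement_eq_one_iff_mul_comm.2 (mem_centralizer_iff.1 hy1 y hy).symm, one_mul]
    exact Normal.conj_mem inferInstance _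
      (mul_mem (Normal.conj_mem inferInstance f hf x) (inv_mem hf)) y
  have hc := CfsgLib.Coprime.le_centralizer_of_trivial_on_frattini_quotient (A := zpowers x) (K := q0 T)
    (by rw [normalizer_eq_top_iff.2 d.q0_normal]; exact le_top)
    (by
      rw [Nat.card_zpowers]
      obtain ⟨k, hk'⟩ := IsPGroup.iff_card.1 (d.q0_pgroup.to_subgroup (frattini ↥(q0 T)))
      rw [hk']
      exact ho.pow_right k)
    (fun a ha z hz => mem_centMod.1 ((zpowers_le.2 hxF) ha) z hz)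
  have hxq : x ∈ q0 T := d.q0_self_cent (hc (mem_zpowers x))
  obtain ⟨k, hk'⟩ := d.q0_pgroup ⟨x, hxq⟩
  exact orderOf_eq_one_iff.1 (Nat.eq_one_of_dvd_coprimes (ho.pow_right k) dvd_rfl
    (orderOf_dvd_of_pow_eq_one (congrArg Subtype.val hk')))

/-- The kernel meets `C_G(V)` in `O_p(G)`. -/
theorem mem_pCore_of_inKer {x : G} (hx : x ∈ centralizer (vQ 3 G : Set G)) (hk : inKer T x) :
    x ∈ Cfsg.pCore 3 G := by
  haveI := nQ_normal d
  refine d.mem_pCore_of_cent (P := centralizer (vQ 3 G : Set G) ⊓ kQ T) ?_ inf_le_left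
    ⟨hx, mem_centMod.2 hk⟩
  exact CfsgLib.BlockCent.isPGroup_of_coprime fun y hy ho => eq_one_of_inKer d hy.1 ho (mem_centMod.1 hy.2)

/-- `B ∩ O_p(G)` lies in the kernel. -/
theorem inKer_of_q0 {x : G} (hx : x ∈ q0 T) : inKer T x := fun _ hz => q0_comm d hx hz

/-- The kernel subgroup `O^p(C_G(V))` acts as a `3'`-group. -/
theorem exists_pow_inKer {x : G} (hx : x ∈ Cfsg.pResidualOf 3 (centralizer (vQ 3 G : Set G))) :
    ∃ k : ℕ, k.Coprime 3 ∧ inKer T (x ^ k) := by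
  classical
  haveI := nQ_normal d
  haveI := d.q0_normal
  haveI := Glue.Setting.omega_normal (G := G) (p := 3)
  haveI := CfsgLib.Coprime.pCore_normal' (G := G) 3
  haveI hkn : (kQ T).Normal := centMod_normal _ _
  obtain ⟨O, hO⟩ : ∃ O, O = Cfsg.pResidualOf 3 (centralizer (vQ 3 G : Set G)) := ⟨_, rfl⟩
  rw [← hO] at hx
  have hOC : O ≤ centralizer (vQ 3 G : Set G) := hO ▸ Push.res_le _
  haveI : O.Normal := normalizer_eq_top_iff.1 (top_le_iff.1 (hO ▸
    (normalizer_eq_top_iff.2 (inferInstance : (centralizer (vQ 3 G : Set G)).Normal)).ge.trans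
      (CfsgLib.Char.TW.normalizer_le_pResidualOf 3 _)))
  have hON : O ≤ Cfsg.pResidualOf 3 (⊤ : Subgroup G) := hO ▸ res_mono le_top
  have hTO : (T : Subgroup G) ⊓ O = Cfsg.pCore 3 G ⊓ O :=
    le_antisymm (fun y hy => ⟨d.inf_cent.le ⟨hy.1, hOC hy.2⟩, hy.2⟩) (inf_le_inf_right _ pCore_le_T)
  have hi : ¬ 3 ∣ ((Cfsg.pCore 3 G ⊓ O).subgroupOf O).index := by
    rw [← hTO]
    exact CfsgLib.Fusion.not_dvd_relIndex_inf_of_normal T O
  obtain ⟨k, hk⟩ : ∃ k, k = ((Cfsg.pCore 3 G ⊓ O).subgroupOf O).index := ⟨_, rfl⟩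
  haveI : ((Cfsg.pCore 3 G ⊓ O).subgroupOf O).Normal := inferInstance
  refine ⟨k, ((Nat.Prime.coprime_iff_not_dvd Nat.prime_three).2 (hk ▸ hi)).symm, ?_⟩
  have hxk : x ^ k ∈ Cfsg.pCore 3 G ⊓ O :=
    hk ▸ mem_subgroupOf.1 (Subgroup.pow_index_mem _ (⟨x, hx⟩ : ↥O))
  refine mem_centMod.1 ?_
  rw [← QuotientGroup.eq_one_iff, ← QuotientGroup.mk'_apply]
  obtain ⟨ξ, hξ⟩ : ∃ ξ, ξ = QuotientGroup.mk' (kQ T) := ⟨_, rfl⟩
  rw [← hξ]
  obtain ⟨ξO, hξO⟩ : ∃ ξO : ↥O →* ↥(O.map ξ), ξO = ξ.subgroupMap O := ⟨_, rfl⟩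
  have hξs : Function.Surjective ξO := hξO ▸ ξ.subgroupMap_surjective O
  have hξval : ∀ y : ↥O, ((ξO y : ↥(O.map ξ)) : G ⧸ kQ T) = ξ y := fun y => by rw [hξO]; rfl
  obtain ⟨SO, hSO⟩ : ∃ SO : Sylow 3 ↥O, (SO : Subgroup ↥O) = (Cfsg.pCore 3 G ⊓ O).subgroupOf O :=
    ⟨(((CfsgLib.Coprime.pCore_isPGroup 3).to_le inf_le_left).comap_of_injective O.subtype
      O.subtype_injective : IsPGroup 3 ↥((Cfsg.pCore 3 G ⊓ O).subgroupOf O)).toSylow hi, rfl⟩
  have hcen : ∀ a ∈ (Cfsg.pCore 3 G ⊓ O).subgroupOf O, ∀ b : ↥O, ξO a * ξO b = ξO b * ξO a := by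
    intro a ha b
    refine Subtype.ext ?_
    rw [Subgroup.coe_mul, Subgroup.coe_mul, hξval, hξval, ← commutatorElement_eq_one_iff_mul_comm,
      ← map_commutatorElement, hξ, QuotientGroup.mk'_apply, QuotientGroup.eq_one_iff,
      ← commutatorElement_inv]
    exact inv_mem (mem_centMod.2 (inKer_of_q0 d (d.pCore_comm_res (hON b.2) ha.1)))
  have h1 := central_eq_one (SO.mapSurjective hξs) ?_ ?_ (z := ξO ⟨x ^ k, hxk.2⟩) ?_ ?_
  · have h2 := congrArg Subtype.val h1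
    rwa [hξval, Subgroup.coe_one] at h2
  · rintro _ ⟨a, ha, rfl⟩ _ ⟨b, hb, rfl⟩
    exact hcen a (hSO ▸ ha) b
  · refine top_le_iff.1 ?_
    rw [← map_top_of_surjective ξO hξs, ← (show Cfsg.pResidual 3 ↥O = ⊤ from ?_), Cfsg.pResidual,
      MonoidHom.map_closure]
    · refine closure_mono ?_
      rintro _ ⟨y, hy, rfl⟩
      exact Nat.Coprime.coprime_dvd_left (orderOf_map_dvd ξO y) hy
    · refine map_injective O.subtype_injective ?_
      show Cfsg.pResidualOf 3 O = (⊤ : Subgroup ↥O).map O.subtype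
      rw [hO, res_res, ← MonoidHom.range_eq_map, range_subtype]
  · refine mem_center_iff.2 fun y => ?_
    obtain ⟨b, rfl⟩ := hξs y
    exact (hcen ⟨x ^ k, hxk.2⟩ hxk b).symm
  · exact mem_map_of_mem ξO (hSO.ge (mem_subgroupOf.2 hxk))

/-- A step of a series fixed by an element acting coprimely is fixed. -/
theorem fix_of_series {x z : G} {k : ℕ} (hk : k.Coprime 3) (hxk : inKer T (x ^ k)) (hz : z ∈ q0 T)
    (hc : ⁅x, ⁅x, z⁆⁆ ∈ nQ T) : ⁅x, z⁆ ∈ nQ T := by
  haveI := nQ_normal d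
  haveI := d.q0_normal
  obtain ⟨π, hπ⟩ : ∃ π, π = QuotientGroup.mk' (nQ T) := ⟨_, rfl⟩
  have hπ1 : ∀ y, π y = 1 ↔ y ∈ nQ T := fun y => hπ ▸ QuotientGroup.eq_one_iff y
  rw [← hπ1, map_commutatorElement]
  rw [← hπ1, map_commutatorElement, map_commutatorElement, commutatorElement_eq_one_iff_commute] at hc
  have hxk' := (hπ1 _).2 (hxk z hz)
  rw [map_commutatorElement, map_pow] at hxk'
  obtain ⟨f, hf⟩ : ∃ f, f = ⁅π x, π z⁆ := ⟨_, rfl⟩
  rw [← hf] at hc ⊢
  have hiter : ∀ i : ℕ, π x ^ i * π z * (π x ^ i)⁻¹ = f ^ i * π z := by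
    intro i
    induction i with
    | zero => simp
    | succ i ih =>
      calc π x ^ (i + 1) * π z * (π x ^ (i + 1))⁻¹ = π x * (π x ^ i * π z * (π x ^ i)⁻¹) * (π x)⁻¹ := by
            rw [pow_succ']; group
        _ = π x * (f ^ i * π z) * (π x)⁻¹ := by rw [ih]
        _ = (π x * f ^ i * (π x)⁻¹) * (π x * π z * (π x)⁻¹) := by group
        _ = f ^ i * (f * π z) := by
          rw [(hc.pow_right i).eq, mul_inv_cancel_right, hf, commutatorElement_def]
          congr 1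
          group
        _ = _ := by rw [pow_succ, mul_assoc]
  have h1 : f ^ k = 1 := by
    have h2 : π x ^ k * π z * (π x ^ k)⁻¹ * (π z)⁻¹ = 1 := hxk'
    rwa [hiter, mul_inv_cancel_right] at h2
  have h3 : f ^ 3 = 1 := by
    rw [hf, ← map_commutatorElement, ← map_pow, hπ1]
    exact cube_mem d (mul_mem (Normal.conj_mem inferInstance z hz x) (inv_mem hz))
  exact orderOf_eq_one_iff.1 (Nat.eq_one_of_dvd_coprimes hk
    (orderOf_dvd_of_pow_eq_one h1) (orderOf_dvd_of_pow_eq_one h3))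

/-- An element centralizing a root element modulo the kernel moves it inside `B ∩ O_p(G)`. -/
theorem shift_mem {F : Type} [Field F] [Fintype F] {X A : Subgroup G} (L : Loc F T X A) {a c : G}
    (ha : a ∈ A) (hc : c ∈ Cfsg.pResidualOf 3 (centralizer (vQ 3 G : Set G))) (hk : inKer T ⁅c, a⁆) :
    a⁻¹ * (c * a * c⁻¹) ∈ q0 T := by
  haveI := nQ_normal d
  haveI := d.q0_normal
  haveI := Glue.Setting.omega_normal (G := G) (p := 3)
  haveI hkn : (kQ T).Normal := centMod_normal _ _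
  obtain ⟨O, hO⟩ : ∃ O, O = Cfsg.pResidualOf 3 (centralizer (vQ 3 G : Set G)) := ⟨_, rfl⟩
  rw [← hO] at hc
  haveI : O.Normal := normalizer_eq_top_iff.1 (top_le_iff.1 (hO ▸
    (normalizer_eq_top_iff.2 (inferInstance : (centralizer (vQ 3 G : Set G)).Normal)).ge.trans
      (CfsgLib.Char.TW.normalizer_le_pResidualOf 3 _)))
  have h1 : a⁻¹ * (c * a * c⁻¹) ∈ O := by
    rw [show a⁻¹ * (c * a * c⁻¹) = (a⁻¹ * c * a⁻¹⁻¹) * c⁻¹ by group]
    exact mul_mem (Normal.conj_mem inferInstance c hc a⁻¹) (inv_mem hc)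
  have h2 : a⁻¹ * (c * a * c⁻¹) ∈ kQ T := by
    rw [show a⁻¹ * (c * a * c⁻¹) = a⁻¹ * ⁅c, a⁆ * a⁻¹⁻¹ by rw [commutatorElement_def]; group]
    exact Normal.conj_mem inferInstance _ (mem_centMod.2 hk) _
  rw [d.q0_eq]
  exact ⟨mem_pCore_of_inKer d (Push.res_le _ (hO ▸ h1)) (mem_centMod.1 h2), res_cent_y1 d (hO ▸ h1)⟩

/-- The cubic map is invariant under an element centralizing the root element. -/
theorem cub_conj {F : Type} [Field F] [Fintype F] {X A : Subgroup G} (L : Loc F T X A) {a c : G}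
    (ha : a ∈ A) (hc : c ∈ Cfsg.pResidualOf 3 (centralizer (vQ 3 G : Set G))) (hk : inKer T ⁅c, a⁆)
    {y : G} (hy : y ∈ q0 T) :
    ⁅a, ⁅a, c * y * c⁻¹⁆⁆ * ⁅a, ⁅a, y⁆⁆⁻¹ ∈ Fr (q0 T) := by
  haveI := Fr_normal d
  haveI := d.q0_normal
  obtain ⟨u, hu⟩ : ∃ u, u = a⁻¹ * (c * a * c⁻¹) := ⟨_, rfl⟩
  have hu0 : u ∈ q0 T := hu ▸ shift_mem d L ha hc hk
  obtain ⟨g, hg⟩ : ∃ g, g = ⁅a, ⁅a, c * y * c⁻¹⁆⁆ := ⟨_, rfl⟩
  obtain ⟨v, hv⟩ : ∃ v, v = ⁅a, ⁅a, y⁆⁆ := ⟨_, rfl⟩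
  rw [← hg, ← hv]
  have h1 : c * v * c⁻¹ * g⁻¹ ∈ Fr (q0 T) := by
    have e : c * v * c⁻¹ = ⁅a * u, ⁅a * u, c * y * c⁻¹⁆⁆ := by
      rw [show a * u = c * a * c⁻¹ by rw [hu]; group, hv]
      simp only [commutatorElement_def]
      group
    rw [e, hg]
    exact L.cub_shift a ha u hu0 _ (Normal.conj_mem inferInstance y hy c)
  have h2 : c * v * c⁻¹ * v⁻¹ ∈ Fr (q0 T) := by
    have hle : wQ X ⊔ zQ X ≤ vQ 3 G ⊔ Fr (q0 T) :=
      sup_le ((commutator_le.2 fun x hx k _ => by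
        haveI := Glue.Setting.omega_normal (G := G) (p := 3)
        exact mem_sup_left (by
          rw [commutatorElement_def, mul_assoc x k, mul_assoc x (k * x⁻¹)]
          exact mul_mem hx (Normal.conj_mem inferInstance _ (inv_mem hx) k)))) (L.Z_le.trans le_sup_right)
    obtain ⟨w, hw, f, hf, e⟩ := mem_sup_of_normal_right.1 (hle (hv ▸ L.cub_mem a ha y hy))
    have hcw : c * w * c⁻¹ = w := by
      rw [(mem_centralizer_iff.1 (Push.res_le _ hc) w hw).symm, mul_inv_cancel_right]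
    rw [← e, show c * (w * f) * c⁻¹ * (w * f)⁻¹ = (c * w * c⁻¹) * ((c * f * c⁻¹) * f⁻¹) * w⁻¹ by group,
      hcw]
    exact Normal.conj_mem inferInstance _
      (mul_mem (Normal.conj_mem inferInstance f hf c) (inv_mem hf)) w
  have h3 := mul_mem (inv_mem h1) h2
  rwa [show (c * v * c⁻¹ * g⁻¹)⁻¹ * (c * v * c⁻¹ * v⁻¹) = g * v⁻¹ by group] at h3

end CfsgLib.CFun.MinParab.Push.Two
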