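import Cfsg.Agent.Lib.CFun.MinParab.Push.Comp
import Cfsg.Agent.Lib.PushAmalgam.TwoLayer.Mk
import Cfsg.Agent.Lib.PushAmalgam.TwoLayer.Action

/-!
# Pushing up with two natural steps: what a member gives inside the whole group

The structure of a member with two natural layers, read in the ambient group. The normal subgroup
`W₀ V Φ(B ∩ O_p(G))` cuts `B ∩ O_p(G)` down to the module on which the kernel of `V` is tested.
-/

set_option autoImplicit false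
set_option linter.unusedSectionVars false
set_option linter.style.haveILetI false

open Subgroup
open scoped commutatorElement MatrixGroups
open CfsgLib.PushUp (ctr Fr)
open CfsgLib.PushAmalgam (comm_mem_Fr pow_mem_Fr Fr_le_self Fr_mono Fr_le_of)
open CfsgLib.PushAmalgam.TwoLayer (bW bR bD bZ)

namespace CfsgLib.CFun.MinParab.Push.Two

universe u v w

variable {G : Type u} [Group G]

/-- `W₀ V Φ(B ∩ O_p(G))`. -/
abbrev nQ (T : Sylow 3 G) : Subgroup G := (w0 T ⊔ vQ 3 G) ⊔ Fr (q0 T)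

/-- `[O_p(X), O^p(X)]`. -/
abbrev rQ (X : Subgroup G) : Subgroup G := ⁅Cfsg.pCoreOf 3 X, Cfsg.pResidualOf 3 X⁆

/-- The part of `rQ X` centralized by `O^p(X)`. -/
abbrev zQ (X : Subgroup G) : Subgroup G := rQ X ⊓ centralizer (Cfsg.pResidualOf 3 X : Set G)

/-- `[V, O^p(X)]`. -/
abbrev wQ (X : Subgroup G) : Subgroup G := ⁅vQ 3 G, Cfsg.pResidualOf 3 X⁆

/-- What a member with two natural layers gives inside `G`. -/
structure Loc (F : Type) [Field F] [Fintype F] (T : Sylow 3 G) (X A : Subgroup G) : Prop where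
  R_eq : Cfsg.pResidualOf 3 X ⊓ centralizer (vQ 3 G : Set G) = rQ X
  R_le_q0 : rQ X ≤ q0 T
  core : Cfsg.pCoreOf 3 (Cfsg.pResidualOf 3 X) = rQ X
  comm_RK : ⁅rQ X, Cfsg.pResidualOf 3 X⁆ = rQ X
  q0_K : ⁅q0 T, Cfsg.pResidualOf 3 X⁆ ≤ rQ X
  W_fix : ∀ x ∈ wQ X, ∀ y ∈ q0 T, Commute x y
  W_le : wQ X ≤ rQ X
  Z_le : zQ X ≤ Fr (q0 T)
  WZ_le : wQ X ⊔ zQ X ≤ nQ T
  R_inf : rQ X ⊓ nQ T ≤ wQ X ⊔ zQ X
  W_inf : wQ X ⊓ centralizer (Cfsg.pResidualOf 3 X : Set G) = ⊥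
  Fr_cent : Fr (q0 T) ≤ centralizer (Cfsg.pResidualOf 3 X : Set G)
  between : ∀ N : Subgroup G, X ≤ normalizer (N : Set G) → wQ X ⊔ zQ X ≤ N → N ≤ rQ X →
    N = wQ X ⊔ zQ X ∨ N = rQ X
  invol : ∃ j ∈ Cfsg.pResidualOf 3 X, ∀ x ∈ wQ X, j * x * j⁻¹ = x⁻¹
  natR : ∃ (ρ : ↥(Cfsg.pResidualOf 3 X) →* SL(2, F)) (ψ : ↥(rQ X) →* Multiplicative (Fin 2 → F)),
    Function.Surjective ψ ∧ (∀ u, ψ u = 1 ↔ (u : G) ∈ wQ X ⊔ zQ X) ∧
    (∀ g : SL(2, F), g ^ 4 = 1 → ∃ k, ρ k = g) ∧ ρ.range = _root_.commutator SL(2, F) ∧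
    ∀ (k : ↥(Cfsg.pResidualOf 3 X)) (v w : ↥(rQ X)), (w : G) = (k : G) * v * (k : G)⁻¹ →
      Multiplicative.toAdd (ψ w) =
        ((ρ k : SL(2, F)) : Matrix (Fin 2) (Fin 2) F).mulVec (Multiplicative.toAdd (ψ v))
  natW : ∃ (ρ : ↥(Cfsg.pResidualOf 3 X) →* SL(2, F)) (ψ : ↥(wQ X ⊔ zQ X) →* Multiplicative (Fin 2 → F)),
    Function.Surjective ψ ∧ (∀ u, ψ u = 1 ↔ (u : G) ∈ zQ X) ∧ ρ.range = _root_.commutator SL(2, F) ∧
    ∀ (k : ↥(Cfsg.pResidualOf 3 X)) (v w : ↥(wQ X ⊔ zQ X)), (w : G) = (k : G) * v * (k : G)⁻¹ →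
      Multiplicative.toAdd (ψ w) =
        ((ρ k : SL(2, F)) : Matrix (Fin 2) (Fin 2) F).mulVec (Multiplicative.toAdd (ψ v))
  quot : Nonempty (↥(Cfsg.pResidualOf 3 X) ⧸ Cfsg.pCore 3 ↥(Cfsg.pResidualOf 3 X) ≃*
    ↥(_root_.commutator SL(2, F)))
  omega : Cfsg.omegaOneCenter 3 (rQ X) = wQ X ⊔ zQ X
  Z_eq : zQ X = ⁅rQ X, rQ X⁆
  Fr_R : Fr (rQ X) = zQ X
  K_cent : Cfsg.pResidualOf 3 X ⊓ centralizer (Cfsg.pResidualOf 3 X : Set G) = zQ X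
  card_Z : Nat.card ↥(zQ X) = Fintype.card F
  cubic : ∀ b ∈ bT T, b ∉ centralizer ((wQ X ⊔ zQ X : Subgroup G) : Set G) →
    ∃ x ∈ rQ X, ⁅⁅x, b⁆, b⁆ ∉ zQ X
  A_le : A ≤ bT T
  A_comm : ∀ a ∈ A, ∀ b ∈ A, Commute a b
  A_elem : ∀ a ∈ A, a ^ 3 = 1
  A_index : ∀ (N : Subgroup G), (∀ a ∈ A, a ∈ N ↔ ∀ x ∈ q0 T, ⁅a, x⁆ ∈ nQ T) →
    N.relIndex A = Fintype.card F
  A_moves : ∃ a ∈ A, ¬ ∀ x ∈ q0 T, ⁅a, x⁆ ∈ nQ T
  A_gen : ∀ N : Subgroup G, N.Normal → ∀ a ∈ A, (¬ ∀ x ∈ q0 T, ⁅a, x⁆ ∈ nQ T) → a ∈ N →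
    Cfsg.pResidualOf 3 X ≤ N
  fix_all : ∀ a ∈ A, (¬ ∀ x ∈ q0 T, ⁅a, x⁆ ∈ nQ T) → ∀ y ∈ q0 T, ⁅a, y⁆ ∈ nQ T →
    ∀ t ∈ A, ⁅t, y⁆ ∈ nQ T
  line_fix : ∀ a ∈ A, ∀ t ∈ A, ∀ y ∈ q0 T, ⁅t, ⁅a, y⁆⁆ ∈ nQ T
  line_pow : Fintype.card F = 3 → ∀ a ∈ A, ∀ x ∈ q0 T, ∀ y ∈ q0 T, ⁅a, y⁆ ∉ nQ T →
    ∃ k : ℕ, ⁅a, x⁆ * ⁅a, y⁆ ^ k ∈ nQ T
  cub_mem : ∀ a ∈ A, ∀ y ∈ q0 T, ⁅a, ⁅a, y⁆⁆ ∈ wQ X ⊔ zQ X
  cub_mul : ∀ a ∈ A, ∀ x ∈ q0 T, ∀ y ∈ q0 T, ⁅a, ⁅a, x * y⁆⁆ = ⁅a, ⁅a, x⁆⁆ * ⁅a, ⁅a, y⁆⁆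
  cub_shift : ∀ a ∈ A, ∀ u ∈ q0 T, ∀ y ∈ q0 T, ⁅a * u, ⁅a * u, y⁆⁆ * ⁅a, ⁅a, y⁆⁆⁻¹ ∈ Fr (q0 T)
  cub_fix : ∀ a ∈ A, ∀ y ∈ q0 T, ⁅a, y⁆ ∈ nQ T → ⁅a, ⁅a, y⁆⁆ ∈ Fr (q0 T)
  cub_ne : ∀ a ∈ A, (¬ ∀ x ∈ q0 T, ⁅a, x⁆ ∈ nQ T) → ∃ y ∈ rQ X, ⁅a, ⁅a, y⁆⁆ ∉ Fr (q0 T)

variable [Finite G] {H : Type v} [Group H] [Finite H] {U : Type w} [AddCommGroup U] [Finite U]
  [DistribMulAction H U] {T : Sylow 3 G} {M : Subgroup G} {m : Glue.Mdl (vQ 3 G) ⊤ H U} {q n r : ℕ}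
  {S : Sylow 3 H} {E : Fin r → Subgroup H}

theorem exists_loc (d : Data T M m q n r S E) {i : Fin r} {F : Type} [Field F] [Fintype F] {X : Subgroup G}
    (mb : Member T m E i (E i) F X) (hab : ∃ a b : ↥(bT T), ¬ Commute a ⁅a, b⁆) :
    ∃ A, Loc F T X A := by
  classical
  haveI := d.q0_normal
  haveI := Glue.Setting.omega_normal (G := G) (p := 3)
  haveI := CfsgLib.PushUp.pCore_normal 3 ↥X
  obtain ⟨hsh, -⟩ : PushAmalgam.ShapeTwo F 3 ↥X ∧ True := by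
    rcases mb.shape with ⟨-, h1, -⟩ | ⟨-, h2, -⟩
    · exfalso
      obtain ⟨a, b, hab⟩ := hab
      have h2 := CfsgLib.Coprime.commutator_le_frattini (T.2.to_le inf_le_left : IsPGroup 3 ↥(bT T))
        (commutator_mem_commutator (mem_top a) (mem_top b))
      have h3 : ⁅⁅a, b⁆, a⁆ = 1 := mem_bot.1 (h1 ▸ commutator_mem_commutator h2 (mem_top a))
      exact hab (commutatorElement_eq_one_iff_commute.1 h3).symm
    · exact ⟨h2, trivial⟩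
  haveI : CharP F 3 := by
    obtain ⟨e, he⟩ := IsPGroup.iff_card.1
      (d.bT_el.pgroup.to_le (inf_le_left : img m (bT T) ⊓ E i ≤ img m (bT T)))
    exact (CfsgLib.PushUp.charP_of_card (p := 3) (n := e) (mb.inf_bT.symm.trans he)).1
  obtain ⟨τ, hτ⟩ : ∃ τ, τ = Subgroup.inclusion mb.le := ⟨_, rfl⟩
  have hτr : τ.range = (bT T).subgroupOf X := by rw [hτ, Subgroup.inclusion_range]
  obtain ⟨V₀, A, A₀, h⟩ := PushAmalgam.TwoLayer.exists_lay τ (hτ ▸ Subgroup.inclusion_injective mb.le)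
    (hτr ▸ mb.sit) (fun Y hY hc => hτ ▸ mb.noChar Y hY hc) mb.exceptional hsh hab
  rw [hτr] at h
  obtain ⟨K, hKdef⟩ : ∃ K, K = Cfsg.pResidualOf 3 X := ⟨_, rfl⟩
  -- moving between `X` and `G`
  have up : ∀ {P : Subgroup ↥X} {x : ↥X}, (x : G) ∈ P.map X.subtype ↔ x ∈ P :=
    fun {P x} => mem_map_iff_mem X.subtype_injective
  have hKm : Cfsg.pResidualOf 3 X = (Cfsg.pResidual 3 ↥X).map X.subtype := rfl
  have hQm : Cfsg.pCoreOf 3 X = (Cfsg.pCore 3 ↥X).map X.subtype := rfl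
  have hcK : ∀ {x : ↥X}, (x : G) ∈ centralizer (Cfsg.pResidualOf 3 X : Set G) ↔
      x ∈ centralizer (Cfsg.pResidual 3 ↥X : Set ↥X) := by
    intro x
    rw [hKm]
    refine ⟨fun hx => mem_centralizer_iff.2 fun k hk => Subtype.ext
      (mem_centralizer_iff.1 hx _ (mem_map_of_mem X.subtype hk)), fun hx => mem_centralizer_iff.2 ?_⟩
    rintro _ ⟨k, hk, rfl⟩
    exact congrArg Subtype.val (mem_centralizer_iff.1 hx k hk)
  have hRm : rQ X = (bR ↥X).map X.subtype := (map_commutator _ _ X.subtype).symm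
  have hZm : zQ X = (bZ ↥X).map X.subtype := by
    rw [zQ, hRm]
    ext x
    constructor
    · rintro ⟨⟨y, hy, rfl⟩, hc⟩
      exact ⟨y, ⟨hy, hcK.1 hc⟩, rfl⟩
    · rintro ⟨y, hy, rfl⟩
      exact ⟨⟨y, hy.1, rfl⟩, hcK.2 hy.2⟩
  -- `B ∩ O_p(G)` inside the member
  have hq0X : q0 T ≤ X := inf_le_left.trans mb.le
  obtain ⟨P, hP⟩ : ∃ P, P = (q0 T).subgroupOf X := ⟨_, rfl⟩
  haveI hPn : P.Normal := hP ▸ inferInstance
  have hPm : P.map X.subtype = q0 T := hP ▸ map_subgroupOf_eq_of_le hq0X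
  have hPQ : P ≤ Cfsg.pCore 3 ↥X := CfsgLib.PGroup.le_pCore inferInstance
    (hP ▸ d.q0_pgroup.comap_of_injective X.subtype X.subtype_injective)
  have hVX : vQ 3 G ≤ X := d.vQ_le.trans hq0X
  obtain ⟨Vx, hVx⟩ : ∃ Vx, Vx = (vQ 3 G).subgroupOf X := ⟨_, rfl⟩
  haveI hVn : Vx.Normal := hVx ▸ inferInstance
  have hVP : Vx ≤ P := hVx ▸ hP ▸ comap_mono d.vQ_le
  have hVm : Vx.map X.subtype = vQ 3 G := hVx ▸ map_subgroupOf_eq_of_le hVX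
  have hVc : ∀ v ∈ Vx, ∀ y ∈ P, Commute v y := fun v hv y hy => by
    rw [hVx] at hv; rw [hP] at hy
    exact Subtype.ext (mem_centralizer_iff.1 (Glue.Setting.omega_le_centralizer hv) (y : G) hy.2).symm
  haveI := PushAmalgam.TwoLayer.residual_normal (Γ := ↥X)
  haveI := h.normal_W
  haveI := h.normal_Z
  haveI := h.normal_R
  have hRV : rQ X ≤ centralizer (vQ 3 G : Set G) := by
    refine commutator_le.2 fun x hx k hk => ?_
    rw [hQm] at hx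
    obtain ⟨x, hx, rfl⟩ := hx
    rw [← proj_eq_one m, map_commutatorElement, commutatorElement_eq_one_iff_mul_comm]
    exact (mem_centralizer_iff.1 ((mb.core x).1 hx).2 _ (mb.proj_res_mem hk)).symm
  have hRq0 : rQ X ≤ q0 T := by
    rw [← mb.inf_cent]
    exact le_inf (hRm ▸ map_subtype_le _) hRV
  have hRP : bR ↥X ≤ P := fun r hr => by
    rw [hP, mem_subgroupOf]
    exact hRq0 (hRm ▸ mem_map_of_mem X.subtype hr)
  -- what centralizes `B ∩ O_p(G)` lies in `W D`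
  have hcen : ∀ x ∈ P, (∀ y ∈ P, Commute x y) → x ∈ bW ↥X ⊔ bD ↥X := by
    intro x hx hc
    obtain ⟨r, hr, c, hc', e⟩ := h.Q_eq (hPQ hx)
    rw [e]
    refine mul_mem ((sup_le le_sup_left (h.Z_le_D.trans le_sup_right) :
      bW ↥X ⊔ bZ ↥X ≤ bW ↥X ⊔ bD ↥X) (h.cent_R hr fun y hy => ?_)) (mem_sup_right hc')
    have h1 : Commute (x * c⁻¹) y := (hc y (hRP hy)).mul_left (h.D_comm_R hc' hy).inv_left
    rw [e, mul_inv_cancel_right] at h1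
    exact h1.symm
  -- `[V, O^p(X)]` is the lower layer
  have hWm : wQ X = (bW ↥X).map X.subtype := by
    obtain ⟨N, hN⟩ : ∃ N, N = ⁅Vx, Cfsg.pResidual 3 ↥X⁆ := ⟨_, rfl⟩
    haveI hNn : N.Normal := hN ▸ inferInstance
    have hmap : wQ X = N.map X.subtype := by rw [hN, map_commutator, hVm]; rfl
    have hNW : N ≤ bW ↥X := hN ▸ commutator_le.2 fun v hv k hk => by
      obtain ⟨w, hw, c, hc, rfl⟩ := mem_sup_of_normal_left.1
        (hcen v (hVP hv) fun y hy => hVc v hv y hy)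
      rw [PushAmalgam.TwoLayer.comm_mul_conj,
        commutatorElement_eq_one_iff_commute.2 (PushAmalgam.commute_of_cent hc.2 hk).symm, mul_one,
        mul_inv_cancel, one_mul, commutatorElement_def, mul_assoc w k, mul_assoc w (k * w⁻¹)]
      exact mul_mem hw (Normal.conj_mem inferInstance _ (Subgroup.inv_mem _ hw) k)
    rcases h.W_natural.between h.normal_W inferInstance (h.W_le_Y.trans inf_le_left) hNn bot_le hNW
      with e | e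
    · exfalso
      refine mb.res_not_le_cent ?_
      rw [e, Subgroup.map_bot] at hmap
      exact le_centralizer_iff.1 (commutator_eq_bot_iff_le_centralizer.1 hmap)
    · rw [hmap, e]
  have hWZm : wQ X ⊔ zQ X = (bW ↥X ⊔ bZ ↥X).map X.subtype := by rw [hWm, hZm, Subgroup.map_sup]
  have hFrP : Fr (q0 T) = (Fr P).map X.subtype := by
    rw [← hPm, CfsgLib.PushUp.Fr_map X.subtype_injective]
  have hFrD : Fr P ≤ bD ↥X :=
    (Fr_mono (CfsgLib.Coprime.pCore_isPGroup 3) hPQ).trans h.Fr_le_D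
  have hPp : IsPGroup 3 ↥P := (CfsgLib.Coprime.pCore_isPGroup 3).to_le hPQ
  have hPP : ⁅P, P⁆ ≤ Fr P := commutator_le.2 fun x hx y hy => comm_mem_Fr hPp hx hy
  have hZFr : bZ ↥X ≤ Fr P := h.Z_eq.le.trans (le_trans (commutator_mono hRP hRP) hPP)
  obtain ⟨ND, hND⟩ : ∃ ND, ND = (bW ↥X ⊔ bD ↥X).map X.subtype := ⟨_, rfl⟩
  have hnQX : nQ T ≤ ND := by
    refine sup_le (fun x hx => ?_) (hFrP ▸ hND ▸ map_mono (hFrD.trans le_sup_right))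
    have hxq : x ∈ q0 T := (sup_le d.w0_le d.vQ_le : w0 T ⊔ vQ 3 G ≤ q0 T) hx
    refine hND ▸ mem_map_of_mem X.subtype (hcen (⟨x, hq0X hxq⟩ : ↥X) (hP ▸ hxq) fun y hy => ?_)
    have hy' : (y : G) ∈ q0 T := by rw [hP] at hy; exact hy
    refine Subtype.ext (mem_centralizer_iff.1 ?_ x hx).symm.symm
    exact ((d.q0_eq.le hy').2 : (y : G) ∈ centralizer ((w0 T ⊔ vQ 3 G : Subgroup G) : Set G))
  -- central elements
  have hzc : ∀ z : ↥X, z ∈ center ↥X → z ∈ P → (z : G) ∈ nQ T := by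
    intro z hz hzP
    rw [hP, mem_subgroupOf] at hzP
    have hzB : ∀ y ∈ bT T, y * (z : G) = z * y := fun y hy =>
      congrArg Subtype.val (mem_center_iff.1 hz ⟨y, mb.le hy⟩)
    have h3 : (z : G) ^ 3 = 1 := congrArg Subtype.val (mb.exceptional.red.elem ⟨z, hzP.1⟩
      (mem_center_iff.2 fun y => Subtype.ext (hzB y y.2)))
    have hJB : Cfsg.thompsonSubgroupOf 3 (T : Subgroup G) ≤ bT T :=
      le_inf (map_subtype_le _) (le_centralizer_iff.1 w0_le_cent)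
    obtain ⟨Am, hAm⟩ := CfsgLib.Fusion.exists_isMaxEA 3 (T : Subgroup G)
    refine mem_sup_left (mem_sup_left (mem_w0 ?_ (mem_centralizer_iff.2 fun y hy => hzB y (hJB hy)) h3))
    exact CfsgLib.Fusion.le_thompsonSubgroupOf hAm (mem_of_maxEA hAm hzP.1.1 h3 fun a ha =>
      (hzB a (hJB (CfsgLib.Fusion.le_thompsonSubgroupOf hAm ha))).symm)
  have hWZn : wQ X ⊔ zQ X ≤ nQ T := by
    refine sup_le ?_ (hZm ▸ (map_mono hZFr).trans (hFrP ▸ le_sup_right))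
    exact (Subgroup.commutator_le_left _ _).trans (le_sup_right.trans le_sup_left)
  have hN0 : ∀ x : ↥X, x ∈ (bW ↥X ⊔ bZ ↥X) ⊔ (center ↥X ⊓ P) → (x : G) ∈ nQ T := by
    have h1 : bW ↥X ⊔ bZ ↥X ≤ (nQ T).comap X.subtype := fun y hy =>
      hWZn (hWZm ▸ mem_map_of_mem X.subtype hy)
    have h2 : center ↥X ⊓ P ≤ (nQ T).comap X.subtype := fun y hy => hzc y hy.1 hy.2
    exact fun x hx => (sup_le h1 h2) hx
  have hnN : ∀ x : ↥X, (x : G) ∈ nQ T → x ∈ bW ↥X ⊔ bD ↥X := fun x hx => up.1 (hND ▸ hnQX hx)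
  have hA : ∀ {a : G}, a ∈ A.map X.subtype → ∃ a' ∈ A, (a' : G) = a := fun ha => ha
  have hq : ∀ {y : G}, y ∈ q0 T → ∃ y' ∈ P, (y' : G) = y := fun hy => ⟨⟨_, hq0X hy⟩, hP ▸ hy, rfl⟩
  have hAQ : ∀ a ∈ A, (∀ x ∈ q0 T, ⁅(a : G), x⁆ ∈ nQ T) ↔ a ∈ Cfsg.pCore 3 ↥X := by
    intro a ha
    constructor
    · intro hall
      by_contra haQ
      obtain ⟨r, hr, hne⟩ := h.not_forall_fix (h.A_le ha) haQ
      refine hne (h.mem_WZ ((bR ↥X).mul_mem (Normal.conj_mem inferInstance r hr a) ((bR ↥X).inv_mem hr)) ?_)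
      exact hnN ⁅a, r⁆ (hall r (hRq0 (hRm ▸ mem_map_of_mem X.subtype hr)))
    · intro haQ x hx
      obtain ⟨x, hxP, rfl⟩ := hq hx
      obtain ⟨r, hr, c, hcP, hc, rfl⟩ := h.split_P hRP hPQ hxP
      obtain ⟨e, hc'⟩ := h.comm_A_split hRP hPQ ha hr hcP hc
      exact hN0 ⁅a, r * c⁆ (e ▸ mul_mem_sup (mem_sup_right (h.comm_QR haQ hr)) hc')
  have hAnQ : ∀ a ∈ A, (¬ ∀ x ∈ q0 T, ⁅(a : G), x⁆ ∈ nQ T) → a ∉ Cfsg.pCore 3 ↥X :=
    fun a ha hn hQ => hn ((hAQ a ha).2 hQ)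
  have hAB : A.map X.subtype ≤ bT T := (map_mono h.A_le).trans (map_subgroupOf_eq_of_le mb.le).le
  refine ⟨A.map X.subtype,
    { R_eq := ?_
      R_le_q0 := hRq0
      core := ?_
      comm_RK := ?_
      q0_K := ?_
      W_fix := ?_
      W_le := hWm ▸ hRm ▸ map_mono h.W_le_R
      Z_le := hZm ▸ hFrP ▸ map_mono hZFr
      WZ_le := hWZn
      R_inf := ?_
      W_inf := ?_
      Fr_cent := ?_
      between := ?_
      invol := ?_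
      natR := ?_
      natW := ?_
      quot := ?_
      omega := ?_
      Z_eq := ?_
      Fr_R := ?_
      K_cent := ?_
      card_Z := ?_
      cubic := ?_
      A_le := hAB
      A_comm := ?_
      A_elem := ?_
      A_index := ?_
      A_moves := ?_
      A_gen := ?_
      fix_all := ?_
      line_fix := ?_
      line_pow := ?_
      cub_mem := ?_
      cub_mul := ?_
      cub_shift := ?_
      cub_fix := ?_
      cub_ne := ?_ }⟩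
  · refine le_antisymm ?_ (le_inf (hRm ▸ map_mono h.R_le_K) hRV)
    rintro x ⟨hxK, hxC⟩
    rw [hKm] at hxK
    obtain ⟨x, hx, rfl⟩ := hxK
    have hxq : (x : G) ∈ q0 T := mb.inf_cent ▸ mem_inf.2 ⟨x.2, hxC⟩
    exact hRm ▸ mem_map_of_mem X.subtype (h.K_inf_Q ⟨hx, hPQ (hP ▸ hxq)⟩)
  · have e := CfsgLib.PushAmalgam.pCore_map_equiv
      ((Cfsg.pResidual 3 ↥X).equivMapOfInjective X.subtype X.subtype_injective) (p := 3)
    rw [Cfsg.pCoreOf, hKm, ← e, map_map, h.pCore_K, hRm]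
    ext x
    constructor
    · rintro ⟨y, hy, rfl⟩
      exact ⟨y, hy, rfl⟩
    · rintro ⟨y, hy, rfl⟩
      exact ⟨⟨y, h.R_le_K hy⟩, hy, rfl⟩
  · rw [hRm, hKm, ← map_commutator, h.comm_RK]
  · rw [hKm, hRm, ← hPm, ← map_commutator]
    refine map_mono (commutator_le.2 fun x hx k hk => ?_)
    obtain ⟨r, hr, c, -, hc, rfl⟩ := h.split_P hRP hPQ hx
    rw [PushAmalgam.TwoLayer.comm_mul_conj,
      commutatorElement_eq_one_iff_commute.2 (PushAmalgam.commute_of_cent hc.2 hk).symm, mul_one,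
      mul_inv_cancel, one_mul]
    exact h.comm_RK.le (commutator_mem_commutator hr hk)
  · intro x hx y hy
    obtain ⟨y, hyP, rfl⟩ := hq hy
    rw [hWm] at hx
    obtain ⟨x, hx, rfl⟩ := hx
    exact (h.Y_comm (h.W_le_Y hx) (hPQ hyP)).map X.subtype
  · rintro x ⟨hxR, hxn⟩
    rw [hRm] at hxR
    obtain ⟨x, hx, rfl⟩ := hxR
    exact hWZm ▸ mem_map_of_mem X.subtype (h.mem_WZ hx (hnN x hxn))
  · rw [eq_bot_iff, hWm]
    rintro _ ⟨⟨x, hx, rfl⟩, hc⟩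
    rw [mem_bot, mem_bot.1 (h.W_inf_cent.le ⟨hx, hcK.1 hc⟩)]
    rfl
  · rw [hFrP]
    rintro _ ⟨x, hx, rfl⟩
    exact hcK.2 (hFrD hx).2
  · intro N hN h1 h2
    have hNX : N ≤ X := h2.trans (hRm ▸ map_subtype_le _)
    haveI : (N.subgroupOf X).Normal := (normal_subgroupOf_iff_le_normalizer hNX).2 hN
    rw [hWZm] at h1 ⊢
    rw [hRm] at h2 ⊢
    rcases h.R_step.between h.normal_R inferInstance h.R_le_Q
      (N := N.subgroupOf X) inferInstance (fun x hx => h1 (mem_map_of_mem X.subtype hx))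
      (fun x hx => up.1 (h2 hx)) with e | e
    · left; rw [← map_subgroupOf_eq_of_le hNX, e]
    · right; rw [← map_subgroupOf_eq_of_le hNX, e]
  · obtain ⟨j, hj, hj2, hj1⟩ := h.exists_invol
    refine ⟨j, hKm ▸ mem_map_of_mem X.subtype hj, fun x hx => ?_⟩
    rw [hWm] at hx
    obtain ⟨x, hx, rfl⟩ := hx
    exact congrArg Subtype.val (h.W_inv hj2 hj1 hx)
  · obtain ⟨-, ρ, ψ, hρ, hker, -, hψ, hψ1, heq⟩ := h.R_step
    obtain ⟨eK, heK⟩ : ∃ eK : ↥(Cfsg.pResidualOf 3 X) →* ↥X, ∀ k, ((eK k : ↥X) : G) = k :=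
      ⟨Subgroup.inclusion (Push.res_le X), fun _ => rfl⟩
    obtain ⟨eR, heR⟩ : ∃ eR : ↥(rQ X) →* ↥(bR ↥X), ∀ u, (((eR u : ↥(bR ↥X)) : ↥X) : G) = u :=
      ⟨MonoidHom.mk' (fun u => ⟨⟨u, hq0X (hRq0 u.2)⟩, up.1 (hRm ▸ u.2)⟩) fun _ _ => rfl, fun _ => rfl⟩
    refine ⟨ρ.comp eK, ψ.comp eR, fun v => ?_, fun u => ?_, fun g hg => ?_, ?_, fun k v w e => ?_⟩
    · obtain ⟨u, rfl⟩ := hψ v
      refine ⟨⟨_, hRm ▸ mem_map_of_mem X.subtype u.2⟩, congrArg ψ (Subtype.ext (Subtype.ext (heR _)))⟩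
    · rw [MonoidHom.comp_apply, hψ1, hWZm]
      conv_rhs => rw [← heR u]
      exact up.symm
    · obtain ⟨k, hk, rfl⟩ := h.exists_K_lift hρ hker hg
      exact ⟨⟨_, hKm ▸ mem_map_of_mem X.subtype hk⟩, congrArg ρ (Subtype.ext (heK _))⟩
    · rw [← h.map_K hρ hker, MonoidHom.range_comp]
      congr 1
      ext x
      refine ⟨?_, fun hx => ⟨⟨_, hKm ▸ mem_map_of_mem X.subtype hx⟩, Subtype.ext (heK _)⟩⟩
      rintro ⟨k, rfl⟩
      exact up.1 (hKm ▸ (heK k).symm ▸ k.2)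
    · exact heq _ _ _ (Subtype.ext (by simp only [Subgroup.coe_mul, Subgroup.coe_inv, heK, heR]; exact e))
  · obtain ⟨ρ, ψ, hρ, hker, hψ, hψ1, heq⟩ := h.exists_psi_WZ
    obtain ⟨eK, heK⟩ : ∃ eK : ↥(Cfsg.pResidualOf 3 X) →* ↥X, ∀ k, ((eK k : ↥X) : G) = k :=
      ⟨Subgroup.inclusion (Push.res_le X), fun _ => rfl⟩
    obtain ⟨eR, heR⟩ : ∃ eR : ↥(wQ X ⊔ zQ X) →* ↥(bW ↥X ⊔ bZ ↥X),
        ∀ u, (((eR u : ↥(bW ↥X ⊔ bZ ↥X)) : ↥X) : G) = u :=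
      ⟨MonoidHom.mk' (fun u => ⟨⟨u, (hWZm.le.trans (map_subtype_le _)) u.2⟩, up.1 (hWZm.le u.2)⟩)
        fun _ _ => rfl, fun _ => rfl⟩
    refine ⟨ρ.comp eK, ψ.comp eR, fun v => ?_, fun u => ?_, ?_, fun k v w e => ?_⟩
    · obtain ⟨u, rfl⟩ := hψ v
      refine ⟨⟨_, hWZm ▸ mem_map_of_mem X.subtype u.2⟩, congrArg ψ (Subtype.ext (Subtype.ext (heR _)))⟩
    · rw [MonoidHom.comp_apply, hψ1, ← up (P := bZ ↥X), heR, ← hZm]
    · rw [← h.map_K hρ hker, MonoidHom.range_comp]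
      congr 1
      ext x
      refine ⟨?_, fun hx => ⟨⟨_, hKm ▸ mem_map_of_mem X.subtype hx⟩, Subtype.ext (heK _)⟩⟩
      rintro ⟨k, rfl⟩
      exact up.1 (hKm ▸ (heK k).symm ▸ k.2)
    · exact heq _ _ _ (Subtype.ext (by simp only [Subgroup.coe_mul, Subgroup.coe_inv, heK, heR]; exact e))
  · obtain ⟨e⟩ := h.quot_K
    haveI := CfsgLib.PushUp.pCore_normal 3 ↥(Cfsg.pResidual 3 ↥X)
    haveI := CfsgLib.PushUp.pCore_normal 3 ↥(Cfsg.pResidualOf 3 X)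
    exact ⟨(QuotientGroup.congr _ _ ((Cfsg.pResidual 3 ↥X).equivMapOfInjective X.subtype X.subtype_injective)
      (CfsgLib.PushAmalgam.pCore_map_equiv _)).symm.trans e⟩
  · rw [hRm, hWZm, Cfsg.omegaOneCenter]
    have hc : (bR ↥X).map X.subtype ⊓ centralizer ((bR ↥X).map X.subtype : Set G) =
        (bW ↥X ⊔ bZ ↥X).map X.subtype := by
      rw [← h.ctr_R]
      exact (CfsgLib.PushUp.ctr_map X.subtype_injective _).symm
    rw [hc]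
    refine le_antisymm (CfsgLib.LS.omegaOne_le_self _) fun x hx => ?_
    obtain ⟨y, hy, rfl⟩ := hx
    exact subset_closure ⟨mem_map_of_mem X.subtype hy, by rw [← map_pow, h.WZ_elem hy, map_one]⟩
  · rw [hZm, hRm, ← map_commutator, h.Z_eq]
  · rw [hZm, hRm, CfsgLib.PushUp.Fr_map X.subtype_injective]
    congr 1
    refine le_antisymm (Fr_le_of (fun x hx => h.cube_mem_Z hx) fun x hx y hy => ?_) ?_
    · exact h.comm_QR (h.R_le_Q hx) hy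
    · rw [h.Z_eq]
      exact commutator_le.2 fun x hx y hy =>
        comm_mem_Fr ((CfsgLib.Coprime.pCore_isPGroup 3).to_le h.R_le_Q) hx hy
  · rw [hZm, ← h.K_inf_cent]
    ext x
    constructor
    · rintro ⟨hx, hc⟩
      rw [hKm] at hx
      obtain ⟨y, hy, rfl⟩ := hx
      exact ⟨y, ⟨hy, hcK.1 hc⟩, rfl⟩
    · rintro ⟨y, hy, rfl⟩
      exact ⟨hKm ▸ mem_map_of_mem X.subtype hy.1, hcK.2 hy.2⟩
  · rw [hZm, card_map_of_injective X.subtype_injective, h.card_Z]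
  · intro b hb hbc
    have hbX : b ∈ X := mb.le hb
    obtain ⟨r, hr, hne⟩ := h.exists_cubic (b := (⟨b, hbX⟩ : ↥X)) (mem_subgroupOf.2 hb) fun hbQ => hbc (by
      rw [hWZm]
      refine mem_centralizer_iff.2 ?_
      rintro _ ⟨w, hw, rfl⟩
      obtain ⟨w₁, hw₁, w₂, hw₂, rfl⟩ := mem_sup_of_normal_left.1 hw
      exact congrArg Subtype.val (((h.Y_comm (h.W_le_Y hw₁) hbQ).mul_left
        (mem_center_iff.1 (h.Z_le_center hw₂) _).symm).eq))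
    exact ⟨(r : G), hRm ▸ mem_map_of_mem X.subtype hr, fun hz => hne (up.1 (hZm ▸ hz))⟩
  · intro a ha b hb
    obtain ⟨a, hmem', rfl⟩ := hA ha
    replace ha := hmem'
    obtain ⟨b, hmem', rfl⟩ := hA hb
    replace hb := hmem'
    exact (h.A_comm a ha b hb).map X.subtype
  · intro a ha
    obtain ⟨a, hmem', rfl⟩ := hA ha
    replace ha := hmem'
    exact congrArg Subtype.val (h.A_elem a ha)
  · intro N hN
    rw [← h.relIndex_A, ← relIndex_map_map_of_injective (Cfsg.pCore 3 ↥X) A X.subtype_injective,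
      ← inf_relIndex_right N, ← inf_relIndex_right ((Cfsg.pCore 3 ↥X).map X.subtype)]
    congr 1
    ext x
    constructor
    · rintro ⟨hxN, hxA⟩
      obtain ⟨a, hmem', rfl⟩ := hA hxA
      replace ha := hmem'
      exact ⟨mem_map_of_mem X.subtype ((hAQ a ha).1 ((hN a hxA).1 hxN)), hxA⟩
    · rintro ⟨hxQ, hxA⟩
      obtain ⟨a, hmem', rfl⟩ := hA hxA
      replace ha := hmem'
      exact ⟨(hN a hxA).2 ((hAQ a ha).2 (up.1 hxQ)), hxA⟩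
  · obtain ⟨a, ha, -, haQ⟩ := h.exists_A
    exact ⟨a, mem_map_of_mem X.subtype ha, fun hall => haQ ((hAQ a ha).1 hall)⟩
  · intro N hN a ha hn haN
    obtain ⟨a, hmem', rfl⟩ := hA ha
    replace ha := hmem'
    haveI := hN
    rw [hKm]
    refine map_le_iff_le_comap.2 (PushAmalgam.TwoLayer.residual_le_of_sup h.isP inferInstance
      (h.sup_eq_top (N := N.comap X.subtype) inferInstance (h.A_le ha) haN (hAnQ a ha hn)))
  · intro a ha hn y hy h1 t ht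
    obtain ⟨a, hmem', rfl⟩ := hA ha
    replace ha := hmem'
    obtain ⟨t, hmem', rfl⟩ := hA ht
    replace ht := hmem'
    obtain ⟨y, hyP, rfl⟩ := hq hy
    exact hN0 ⁅t, y⁆ (h.fix_all hRP hPQ ha (hAnQ a ha hn) ht hyP (hnN ⁅a, y⁆ h1))
  · intro a ha t ht y hy
    obtain ⟨a, hmem', rfl⟩ := hA ha
    replace ha := hmem'
    obtain ⟨t, hmem', rfl⟩ := hA ht
    replace ht := hmem'
    obtain ⟨y, hyP, rfl⟩ := hq hy
    exact hN0 ⁅t, ⁅a, y⁆⁆ (mem_sup_left (h.line_fix hRP hPQ ha ht hyP))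
  · intro hF a ha x hx y hy hne
    obtain ⟨a, hmem', rfl⟩ := hA ha
    replace ha := hmem'
    obtain ⟨x, hxP, rfl⟩ := hq hx
    obtain ⟨y, hyP, rfl⟩ := hq hy
    have haQ : a ∉ Cfsg.pCore 3 ↥X := fun hQ => hne ((hAQ a ha).2 hQ y (hPm ▸ mem_map_of_mem X.subtype hyP))
    obtain ⟨k, hk⟩ := h.line_pow hRP hPQ hF ha haQ hxP hyP fun h1 => hne (hN0 ⁅a, y⁆ h1)
    exact ⟨k, hN0 (⁅a, x⁆ * ⁅a, y⁆ ^ k) hk⟩
  · intro a ha y hy
    obtain ⟨a, hmem', rfl⟩ := hA ha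
    replace ha := hmem'
    obtain ⟨y, hyP, rfl⟩ := hq hy
    exact hWZm ▸ mem_map_of_mem X.subtype (h.cub_mem hRP hPQ ha hyP)
  · intro a ha x hx y hy
    obtain ⟨a, hmem', rfl⟩ := hA ha
    replace ha := hmem'
    obtain ⟨x, hxP, rfl⟩ := hq hx
    obtain ⟨y, hyP, rfl⟩ := hq hy
    exact congrArg Subtype.val (h.cub_mul hRP hPQ ha hxP hyP)
  · intro a ha u hu y hy
    obtain ⟨a, hmem', rfl⟩ := hA ha
    replace ha := hmem'
    obtain ⟨u, huP, rfl⟩ := hq hu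
    obtain ⟨y, hyP, rfl⟩ := hq hy
    exact hFrP ▸ mem_map_of_mem X.subtype (hPP (h.cub_shift hRP hPQ ha huP hyP))
  · intro a ha y hy h1
    obtain ⟨a, hmem', rfl⟩ := hA ha
    replace ha := hmem'
    obtain ⟨y, hyP, rfl⟩ := hq hy
    exact hFrP ▸ mem_map_of_mem X.subtype (hZFr (h.cub_fix hRP hPQ ha hyP (hnN ⁅a, y⁆ h1)))
  · intro a ha hn
    obtain ⟨a, hmem', rfl⟩ := hA ha
    replace ha := hmem'
    obtain ⟨r, hr, hne⟩ := h.exists_cubic (h.A_le ha) (hAnQ a ha hn)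
    refine ⟨(r : G), hRm ▸ mem_map_of_mem X.subtype hr, fun hF => hne ?_⟩
    have h1 : ⁅a, ⁅a, r⁆⁆ ∈ Fr P := up.1 (hFrP ▸ hF)
    have hlR : ∀ {x : ↥X}, x ∈ bR ↥X → ⁅a, x⁆ ∈ bR ↥X := fun hx =>
      (bR ↥X).mul_mem (Normal.conj_mem inferInstance _ hx a) ((bR ↥X).inv_mem hx)
    have h2 : ⁅a, ⁅a, r⁆⁆ ∈ bZ ↥X := ⟨hlR (hlR hr), (hFrD h1).2⟩
    rw [show ⁅⁅r, a⁆, a⁆ = ⁅a, r⁆⁻¹ * ⁅a, ⁅a, r⁆⁆ * ⁅a, r⁆⁻¹⁻¹ by
      simp only [commutatorElement_def]; group]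
    exact h.normal_Z.conj_mem _ h2 _

end CfsgLib.CFun.MinParab.Push.Two
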