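import Cfsg.Agent.Lib.CFun.MinParab.Push.Two.Commute

/-!
# Pushing up with two natural steps over the field of three elements

A root element and its conjugate by `O^p(C_G(V))` are transvections of the module. Their quotient lies in the
`3'`-group, so either they agree or its square inverts the displacement of the root element, against the cubic
map.
-/

set_option autoImplicit false
set_option linter.unusedSectionVars false
set_option linter.style.haveILetI false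

open Subgroup
open scoped commutatorElement MatrixGroups
open CfsgLib.PushUp (Fr)
open CfsgLib.PushAmalgam (pow_mem_Fr)
open CfsgLib.PushAmalgam.TwoLayer (comm_mul_conj comm_conj_mul)

namespace CfsgLib.CFun.MinParab.Push.Two

universe u v w

variable {G : Type u} [Group G] [Finite G] {T : Sylow 3 G} {M : Subgroup G}
  {H : Type v} [Group H] [Finite H] {U : Type w} [AddCommGroup U] [Finite U] [DistribMulAction H U]
  {m : Glue.Mdl (vQ 3 G) ⊤ H U} {q n r : ℕ} {S : Sylow 3 H} {E : Fin r → Subgroup H}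

/-- The elements moving the module only inside a subgroup. -/
theorem exists_movesIn {K : Type*} [Group K] {W P₁ : Subgroup K} (hW : W.Normal)
    (hc : ∀ x ∈ W, ∀ y ∈ W, Commute x y) (hle : P₁ ≤ W) :
    ∃ 𝒢 : Subgroup K, ∀ g, g ∈ 𝒢 ↔ ∀ w ∈ W, ⁅g, w⁆ ∈ P₁ := by
  refine ⟨{ carrier := {g | ∀ w ∈ W, ⁅g, w⁆ ∈ P₁}
            one_mem' := fun w _ => by rw [commutatorElement_one_left]; exact one_mem _
            mul_mem' := fun {g h} hg hh w hw => ?_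
            inv_mem' := fun {g} hg w hw => ?_ }, fun _ => Iff.rfl⟩
  · rw [comm_mul_conj]
    have h1 := hg _ (hle (hh w hw))
    rw [commutatorElement_def] at h1
    refine P₁.mul_mem ?_ (hg w hw)
    have h2 := P₁.mul_mem h1 (hh w hw)
    rwa [inv_mul_cancel_right] at h2
  · obtain ⟨w', hw'⟩ : ∃ w', w' = g⁻¹ * w * g := ⟨_, rfl⟩
    have hw'W : w' ∈ W := hw' ▸ by simpa using hW.conj_mem w hw g⁻¹
    have h1 := P₁.inv_mem (hg w' hw'W)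
    have e : ⁅g⁻¹, w⁆ = w' * w⁻¹ := by rw [hw', commutatorElement_def]; group
    rw [e]
    rwa [commutatorElement_def, show (g * w' * g⁻¹ * w'⁻¹)⁻¹ = w' * w⁻¹ by rw [hw']; group] at h1

variable (d : Data T M m q n r S E)
include d

/-- `q = 3`: the root elements centralize `O^p(C_G(V))` modulo the kernel. -/
theorem root_cent_three {F : Type} [Field F] [Fintype F] {X A : Subgroup G} (L : Loc F T X A)
    (hF : Fintype.card F = 3) {a c : G} (ha : a ∈ A) (hc : c ∈ oC G) : inKer T ⁅c, a⁆ := by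
  classical
  haveI := nQ_normal d
  haveI := d.q0_normal
  haveI := oC_normal d
  haveI := Fr_normal d
  haveI hkn : (kQ T).Normal := centMod_normal _ _
  by_cases hna : inKer T a
  · exact mem_centMod.1 (show ⁅c, a⁆ ∈ kQ T from
      mul_mem (Normal.conj_mem inferInstance a (mem_centMod.2 hna) c) (inv_mem (mem_centMod.2 hna)))
  obtain ⟨π, hπ⟩ : ∃ π, π = QuotientGroup.mk' (nQ T) := ⟨_, rfl⟩
  have hπ1 : ∀ y, π y = 1 ↔ y ∈ nQ T := fun y => hπ ▸ QuotientGroup.eq_one_iff y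
  have hπc : ∀ x y, ⁅x, y⁆ ∈ nQ T ↔ Commute (π x) (π y) := fun x y => by
    rw [← hπ1, map_commutatorElement, commutatorElement_eq_one_iff_commute]
  obtain ⟨W, hWdef⟩ : ∃ W, W = (q0 T).map π := ⟨_, rfl⟩
  haveI hWn : W.Normal := hWdef ▸ Subgroup.Normal.map inferInstance π (hπ ▸ QuotientGroup.mk'_surjective _)
  have hπW : ∀ {x}, x ∈ q0 T → π x ∈ W := fun hx => hWdef ▸ mem_map_of_mem π hx
  have hWc : ∀ x ∈ W, ∀ y ∈ W, Commute x y := by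
    rw [hWdef]
    rintro _ ⟨x, hx, rfl⟩ _ ⟨y, hy, rfl⟩
    exact (hπc _ _).1 (q0_comm d hx hy)
  have hW3 : ∀ x ∈ W, x ^ 3 = 1 := by
    rw [hWdef]
    rintro _ ⟨x, hx, rfl⟩
    rw [← map_pow, hπ1]
    exact cube_mem d hx
  obtain ⟨y0, hy0, hy0'⟩ : ∃ y ∈ q0 T, ⁅a, y⁆ ∉ nQ T := by
    unfold inKer at hna
    push_neg at hna
    exact hna
  have hcm : ∀ {t z : G}, z ∈ q0 T → ⁅t, z⁆ ∈ q0 T := fun {t z} hz =>
    mul_mem (Normal.conj_mem inferInstance z hz t) (inv_mem hz)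
  -- the conjugate root element and its displacement
  obtain ⟨v, hv⟩ : ∃ v, v = c * a * c⁻¹ := ⟨_, rfl⟩
  obtain ⟨y, hy⟩ : ∃ y, y = c * ⁅a, y0⁆ * c⁻¹ := ⟨_, rfl⟩
  have hyq : y ∈ q0 T := hy ▸ Normal.conj_mem inferInstance _ (hcm hy0) c
  obtain ⟨α, hα⟩ : ∃ α, α = π a := ⟨_, rfl⟩
  obtain ⟨ν, hν⟩ : ∃ ν, ν = π v := ⟨_, rfl⟩
  obtain ⟨Y, hY⟩ : ∃ Y, Y = π y := ⟨_, rfl⟩
  obtain ⟨X0, hX0⟩ : ∃ X0, X0 = π ⁅a, y0⁆ := ⟨_, rfl⟩
  have hYW : Y ∈ W := hY ▸ hπW hyq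
  have hX0W : X0 ∈ W := hX0 ▸ hπW (hcm hy0)
  have hmoveA : ∀ w ∈ W, ⁅α, w⁆ ∈ zpowers X0 := by
    rw [hWdef]
    rintro _ ⟨z, hz, rfl⟩
    obtain ⟨k, hk⟩ := L.line_pow hF a ha z hz y0 hy0 hy0'
    rw [← hπ1, map_mul, map_pow, ← hX0, mul_eq_one_iff_eq_inv] at hk
    rw [hα, ← map_commutatorElement, hk]
    exact inv_mem (pow_mem (mem_zpowers X0) k)
  have hmoveV : ∀ w ∈ W, ⁅ν, w⁆ ∈ zpowers Y := by
    intro w hw
    have h1 := hmoveA _ (hWn.conj_mem w hw (π c)⁻¹)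
    obtain ⟨i, hi⟩ := mem_zpowers_iff.1 h1
    refine mem_zpowers_iff.2 ⟨i, ?_⟩
    rw [hY, hy, map_mul, map_mul, map_inv, ← hX0, conj_zpow, hi, hν, hv, map_mul, map_mul, map_inv, ← hα]
    simp only [commutatorElement_def]
    group
  have hαX : Commute α X0 := by
    rw [hα, hX0]
    exact (hπc _ _).1 (L.line_fix a ha a ha y0 hy0)
  have hνY : Commute ν Y := by
    rw [hν, hY, hy, hv, map_mul, map_mul, map_inv, map_mul, map_mul, map_inv, ← hα, ← hX0]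
    exact hαX.conj (π c)
  -- the quotient of the two
  obtain ⟨γ, hγ⟩ : ∃ γ, γ = ⁅c, a⁆ := ⟨_, rfl⟩
  rw [← hγ]
  have hγO : γ ∈ oC G := by
    rw [hγ, show ⁅c, a⁆ = c * (a * c⁻¹ * a⁻¹) by rw [commutatorElement_def]; group]
    exact mul_mem hc (Normal.conj_mem inferInstance _ (inv_mem hc) a)
  obtain ⟨n₀, hn₀, hγn⟩ := exists_pow_inKer d hγO
  obtain ⟨e, he⟩ : ∃ e, e = π γ := ⟨_, rfl⟩
  have heν : e = ν * α⁻¹ := by
    rw [he, hν, hα, hv, hγ, ← map_inv, ← map_mul, commutatorElement_def]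
  have hser : ∀ w ∈ W, Commute e ⁅e, w⁆ → Commute e w := by
    rw [hWdef]
    rintro _ ⟨z, hz, rfl⟩ hc'
    rw [he] at hc' ⊢
    rw [← map_commutatorElement, ← hπc] at hc'
    exact (hπc _ _).1 (fix_of_series d hn₀ hγn hz hc')
  have hen : ∀ w ∈ W, Commute (e ^ n₀) w := by
    rw [hWdef]
    rintro _ ⟨z, hz, rfl⟩
    rw [he, ← map_pow]
    exact (hπc _ _).1 (hγn z hz)
  obtain ⟨P2, hP2⟩ : ∃ P2, P2 = zpowers X0 ⊔ zpowers Y := ⟨_, rfl⟩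
  have hP2W : P2 ≤ W := hP2 ▸ sup_le (zpowers_le.2 hX0W) (zpowers_le.2 hYW)
  obtain ⟨𝒢, h𝒢⟩ := exists_movesIn hWn hWc hP2W
  have hα𝒢 : α ∈ 𝒢 := (h𝒢 α).2 fun w hw => hP2 ▸ mem_sup_left (hmoveA w hw)
  have hν𝒢 : ν ∈ 𝒢 := (h𝒢 ν).2 fun w hw => hP2 ▸ mem_sup_right (hmoveV w hw)
  have he𝒢 : e ∈ 𝒢 := heν ▸ mul_mem hν𝒢 (inv_mem hα𝒢)
  have hfixP2 : ∀ g : G ⧸ nQ T, Commute g X0 → Commute g Y → ∀ w ∈ P2, Commute g w := by
    intro g h1 h2 w hw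
    have hle : P2 ≤ centralizer ({g} : Set (G ⧸ nQ T)) := hP2 ▸ sup_le
      (zpowers_le.2 (mem_centralizer_singleton_iff.2 h1.symm.eq))
      (zpowers_le.2 (mem_centralizer_singleton_iff.2 h2.symm.eq))
    exact (mem_centralizer_singleton_iff.1 (hle hw)).symm
  by_cases hνX : Commute ν X0
  · by_cases hαY : Commute α Y
    · -- both fix the plane
      intro z hz
      rw [hπc, ← he]
      have heX : Commute e X0 := heν ▸ hνX.mul_left hαX.inv_left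
      have heY : Commute e Y := heν ▸ hνY.mul_left hαY.inv_left
      exact hser _ (hπW hz) (hfixP2 e heX heY _ ((h𝒢 e).1 he𝒢 _ (hπW hz)))
    · exfalso
      refine hαY ?_
      have heX : Commute e X0 := heν ▸ hνX.mul_left hαX.inv_left
      have h1 : ⁅e, Y⁆ = ν * ⁅α⁻¹, Y⁆ * ν⁻¹ := by
        rw [heν, comm_mul_conj, commutatorElement_eq_one_iff_commute.2 hνY, mul_one]
      have h2 : ⁅α⁻¹, Y⁆ ∈ zpowers X0 := by
        have h3 := inv_mem (hmoveA _ (hWn.conj_mem Y hYW α⁻¹))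
        rw [show (⁅α, α⁻¹ * Y * α⁻¹⁻¹⁆)⁻¹ = ⁅α⁻¹, Y⁆ by simp only [commutatorElement_def]; group] at h3
        exact h3
      obtain ⟨i, hi⟩ := mem_zpowers_iff.1 h2
      have h4 : ⁅e, Y⁆ = X0 ^ i := by
        rw [h1, ← hi, ← conj_zpow, hνX.eq, mul_inv_cancel_right]
      have h5 := hser Y hYW (h4 ▸ heX.zpow_right i)
      have h6 : ν * α⁻¹ * Y = Y * (ν * α⁻¹) := heν ▸ h5.eq
      have h7 : Commute α⁻¹ Y := by
        have := (hνY.inv_left).mul_left (show Commute (ν * α⁻¹) Y from h6)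
        rwa [inv_mul_cancel_left] at this
      simpa using h7.inv_left
  -- the conjugate moves the displacement
  have hαY : ¬ Commute α Y := by
    intro hαY
    refine hνX ?_
    have heY : Commute e Y := heν ▸ hνY.mul_left hαY.inv_left
    have h1 : ⁅e, X0⁆ = ⁅ν, X0⁆ := by
      rw [heν, comm_mul_conj, commutatorElement_eq_one_iff_commute.2 hαX.inv_left]
      group
    obtain ⟨i, hi⟩ := mem_zpowers_iff.1 (hmoveV X0 hX0W)
    have h5 := hser X0 hX0W (by rw [h1, ← hi]; exact heY.zpow_right i)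
    rw [← commutatorElement_eq_one_iff_commute, ← h1, commutatorElement_eq_one_iff_commute]
    exact h5
  obtain ⟨X1, hX1⟩ : ∃ X1, X1 = ⁅α, Y⁆ := ⟨_, rfl⟩
  have hX1W : X1 ∈ W := hX1 ▸ mul_mem (hWn.conj_mem Y hYW α) (inv_mem hYW)
  have hX1z : X1 ∈ zpowers X0 := hX1 ▸ hmoveA Y hYW
  have hX1ne : X1 ≠ 1 := fun h => hαY (commutatorElement_eq_one_iff_commute.1 (hX1 ▸ h))
  have hX0z : X0 ∈ zpowers X1 := by
    obtain ⟨i, hi⟩ := mem_zpowers_iff.1 hX1z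
    have hord : orderOf X0 = 3 := orderOf_eq_prime (hW3 X0 hX0W) fun h => hX1ne (by rw [← hi, h, one_zpow])
    have hcard : Nat.card ↥(zpowers X0) = 3 := by rw [Nat.card_zpowers, hord]
    have hne : (⟨X1, hX1z⟩ : ↥(zpowers X0)) ≠ 1 := fun h => hX1ne (congrArg Subtype.val h)
    obtain ⟨j, hj⟩ := mem_zpowers_iff.1 ((zpowers_eq_top_of_prime_card hcard hne).ge
      (mem_top (⟨X0, mem_zpowers X0⟩ : ↥(zpowers X0))))
    exact mem_zpowers_iff.2 ⟨j, by simpa using congrArg Subtype.val hj⟩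
  have hαX1 : Commute α X1 := by
    obtain ⟨i, hi⟩ := mem_zpowers_iff.1 hX1z
    exact hi ▸ hαX.zpow_right i
  have hνX1 : ¬ Commute ν X1 := fun h => hνX (by
    obtain ⟨j, hj⟩ := mem_zpowers_iff.1 hX0z
    exact hj ▸ h.zpow_right j)
  have hXY : Commute X1 Y := hWc _ hX1W _ hYW
  -- conjugation as an automorphism
  have hαY' : α * Y * α⁻¹ = X1 * Y := by rw [hX1, commutatorElement_def]; group
  have hαX' : α⁻¹ * X1 * α = X1 := by rw [mul_assoc, ← hαX1.eq, inv_mul_cancel_left]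
  have hαY'' : α⁻¹ * Y * α = X1⁻¹ * Y := by
    calc α⁻¹ * Y * α = α⁻¹ * (X1⁻¹ * (α * Y * α⁻¹)) * α := by rw [hαY', inv_mul_cancel_left]
      _ = (α⁻¹ * X1 * α)⁻¹ * Y := by group
      _ = _ := by rw [hαX']
  obtain ⟨Φ, hΦ⟩ : ∃ Φ : G ⧸ nQ T →* G ⧸ nQ T, ∀ w, Φ w = e * w * e⁻¹ :=
    ⟨(MulAut.conj e).toMonoidHom, fun _ => rfl⟩
  have hΦY : Φ Y = ν * (X1⁻¹ * Y) * ν⁻¹ := by
    rw [hΦ, ← hαY'', heν]; group
  have hΦX : Φ X1 = ν * X1 * ν⁻¹ := by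
    rw [hΦ]
    conv_rhs => rw [← hαX']
    rw [heν]; group
  have hνY' : ν * Y * ν⁻¹ = Y := by rw [hνY.eq, mul_inv_cancel_right]
  obtain ⟨f, hf⟩ : ∃ f, f = ⁅ν, X1⁆ := ⟨_, rfl⟩
  have hfX : ν * X1 * ν⁻¹ = f * X1 := by rw [hf, commutatorElement_def]; group
  have hfne : f ≠ 1 := fun h => hνX1 (commutatorElement_eq_one_iff_commute.1 (hf ▸ h))
  have hΦY' : Φ Y = (f * X1)⁻¹ * Y := by
    calc Φ Y = (ν * X1 * ν⁻¹)⁻¹ * (ν * Y * ν⁻¹) := by rw [hΦY]; group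
      _ = _ := by rw [hfX, hνY']
  have hY3 := hW3 Y hYW
  have hf2 : f = Y ∨ f = Y⁻¹ := by
    obtain ⟨i, hi⟩ := mem_zpowers_iff.1 (hf ▸ hmoveV X1 hX1W : f ∈ zpowers Y)
    have h1 : i % 3 = 0 ∨ i % 3 = 1 ∨ i % 3 = 2 := by omega
    have h3 : Y ^ i = Y ^ (i % 3) := by
      conv_lhs => rw [← Int.emod_add_mul_ediv i 3, zpow_add, zpow_mul]
      rw [show Y ^ (3 : ℤ) = 1 by exact_mod_cast hY3, one_zpow, mul_one]
    rcases h1 with h | h | h <;> rw [h] at h3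
    · exact absurd (by rw [← hi, h3, zpow_zero]) hfne
    · left; rw [← hi, h3, zpow_one]
    · right
      rw [← hi, h3, show Y ^ (2 : ℤ) = Y ^ (2 : ℕ) from zpow_natCast Y 2]
      exact eq_inv_of_mul_eq_one_left (by rw [← pow_succ, hY3])
  have hΦX' : Φ X1 = f * X1 := hΦX.trans hfX
  rcases hf2 with h1 | h1 <;> rw [h1] at hΦX' hΦY'
  · exfalso
    have e1 : Φ Y = X1⁻¹ := by rw [hΦY', mul_inv_rev, mul_assoc, inv_mul_cancel, mul_one]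
    have e2 : Φ (Φ X1) = Y := by
      rw [hΦX', map_mul, e1, hΦX', ← mul_assoc, (hXY.inv_left).eq, inv_mul_cancel_right]
    have e6 : Φ (Φ (Φ (Φ (Φ (Φ X1))))) = X1 := by rw [e2, e1, map_inv, map_inv, map_inv, e2, e1, inv_inv]
    have h6 : Commute (e ^ 6) X1 := by
      refine mul_inv_eq_iff_eq_mul.1 ?_
      conv_rhs => rw [← e6]
      simp only [hΦ, pow_succ, pow_zero, one_mul, mul_inv_rev, mul_assoc]
    have hn : Commute (e ^ n₀) X1 := hen X1 hX1W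
    have h2 : Commute (e ^ 2) X1 := by
      have hmem : ∀ {k : ℕ}, Commute (e ^ k) X1 → e ^ k ∈ centralizer ({X1} : Set (G ⧸ nQ T)) :=
        fun h => mem_centralizer_singleton_iff.2 h.eq
      obtain ⟨s, hs⟩ : ∃ s : ℕ, 3 ∣ n₀ * s - 1 ∧ 1 ≤ n₀ * s := by
        rcases (by omega : n₀ % 3 = 0 ∨ n₀ % 3 = 1 ∨ n₀ % 3 = 2) with h | h | h
        · exact absurd (Nat.dvd_of_mod_eq_zero h) ((Nat.Prime.coprime_iff_not_dvd Nat.prime_three).1 hn₀.symm)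
        · exact ⟨1, by omega, by omega⟩
        · exact ⟨2, by omega, by omega⟩
      obtain ⟨t, ht⟩ := hs.1
      have e3 : e ^ 2 = ((e ^ 6) ^ t)⁻¹ * (e ^ n₀) ^ (2 * s) := by
        rw [← pow_mul, ← pow_mul, eq_inv_mul_iff_mul_eq, ← pow_add]
        congr 1
        have := hs.2
        rw [show n₀ * (2 * s) = 2 * (n₀ * s) by ring]
        omega
      rw [e3]
      exact ((h6.pow_left t).inv_left).mul_left (hn.pow_left _)
    have hYX : Y = X1 := by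
      rw [← e2]
      simp only [hΦ]
      rw [show e * (e * X1 * e⁻¹) * e⁻¹ = e ^ 2 * X1 * (e ^ 2)⁻¹ by rw [pow_two]; group, h2.eq,
        mul_inv_cancel_right]
    exact hνX1 (hYX ▸ hνY)
  -- the square inverts the plane
  have hY2 : Y ^ 2 = Y⁻¹ := eq_inv_of_mul_eq_one_left (by rw [← pow_succ, hY3])
  have hX2 : X1 * X1 = X1⁻¹ := eq_inv_of_mul_eq_one_left (by
    rw [← pow_two, ← pow_succ]; exact hW3 X1 hX1W)
  have e1 : Φ Y = X1⁻¹ * Y⁻¹ := by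
    rw [hΦY', mul_inv_rev, inv_inv, mul_assoc, ← pow_two, hY2]
  have t1 : Φ (Φ X1) = X1⁻¹ := by
    rw [hΦX', map_mul, map_inv, e1, hΦX', mul_inv_rev, inv_inv, inv_inv]
    rw [(hXY.symm).eq, mul_assoc, ← mul_assoc Y, mul_inv_cancel, one_mul, hX2]
  have t2 : Φ (Φ Y) = Y⁻¹ := by
    rw [e1, map_mul, map_inv, map_inv, hΦX', e1, mul_inv_rev, mul_inv_rev, inv_inv, inv_inv,
      show X1⁻¹ * Y * (Y * X1) = X1⁻¹ * (Y * Y) * X1 by group, ← pow_two, hY2,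
      (hXY.inv_left.inv_right).eq, inv_mul_cancel_right]
  obtain ⟨τ, hτ⟩ : ∃ τ, τ = γ ^ 2 := ⟨_, rfl⟩
  have hτO : τ ∈ oC G := hτ ▸ pow_mem hγO 2
  have hτπ : π τ = e * e := by rw [hτ, map_pow, ← he, pow_two]
  obtain ⟨σ, hσ⟩ : ∃ σ, σ = e * e := ⟨_, rfl⟩
  have hσX : σ * X1 * σ⁻¹ = X1⁻¹ := by rw [← t1]; simp only [hΦ, hσ]; group
  have hσY : σ * Y * σ⁻¹ = Y⁻¹ := by rw [← t2]; simp only [hΦ, hσ]; group
  obtain ⟨δ, hδ⟩ : ∃ δ, δ = ⁅τ, a⁆ := ⟨_, rfl⟩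
  have hδO : δ ∈ oC G := by
    rw [hδ, show ⁅τ, a⁆ = τ * (a * τ⁻¹ * a⁻¹) by rw [commutatorElement_def]; group]
    exact mul_mem hτO (Normal.conj_mem inferInstance _ (inv_mem hτO) a)
  obtain ⟨ε, hε⟩ : ∃ ε, ε = π δ := ⟨_, rfl⟩
  have hεeq : ε = σ * α * σ⁻¹ * α⁻¹ := by
    rw [hε, hδ, map_commutatorElement, hτπ, ← hα, ← hσ, commutatorElement_def]
  have hσi : ∀ Z, σ * Z * σ⁻¹ = Z⁻¹ → σ⁻¹ * Z * σ = Z⁻¹ := fun Z hZ => by
    calc σ⁻¹ * Z * σ = σ⁻¹ * (σ * Z * σ⁻¹)⁻¹ * σ := by rw [hZ, inv_inv]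
      _ = _ := by group
  have hεX : Commute ε X1 := by
    refine mul_inv_eq_iff_eq_mul.1 ?_
    calc ε * X1 * ε⁻¹ = σ * (α * (σ⁻¹ * (α⁻¹ * X1 * α) * σ) * α⁻¹) * σ⁻¹ := by rw [hεeq]; group
      _ = σ * (α * X1⁻¹ * α⁻¹) * σ⁻¹ := by rw [hαX', hσi X1 hσX]
      _ = (σ * X1 * σ⁻¹)⁻¹ := by rw [(hαX1.inv_right).eq, mul_inv_cancel_right]; group
      _ = X1 := by rw [hσX, inv_inv]
  have hεY : Commute ε Y := by
    refine mul_inv_eq_iff_eq_mul.1 ?_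
    calc ε * Y * ε⁻¹ = σ * (α * ((σ⁻¹ * X1 * σ)⁻¹ * (σ⁻¹ * Y * σ)) * α⁻¹) * σ⁻¹ := by
          rw [hεeq]
          calc σ * α * σ⁻¹ * α⁻¹ * Y * (σ * α * σ⁻¹ * α⁻¹)⁻¹
              = σ * (α * (σ⁻¹ * (α⁻¹ * Y * α) * σ) * α⁻¹) * σ⁻¹ := by group
            _ = _ := by rw [hαY'']; group
      _ = σ * ((α * X1 * α⁻¹) * (α * Y * α⁻¹)⁻¹) * σ⁻¹ := by
        rw [hσi X1 hσX, hσi Y hσY, inv_inv]; group
      _ = σ * Y⁻¹ * σ⁻¹ := by
        rw [hαY', hαX1.eq, mul_inv_cancel_right, (hXY).eq, mul_inv_rev, mul_inv_cancel_left]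
      _ = (σ * Y * σ⁻¹)⁻¹ := by group
      _ = Y := by rw [hσY, inv_inv]
  have hδker : inKer T δ := by
    obtain ⟨k₁, hk₁, hδk⟩ := exists_pow_inKer d hδO
    intro z hz
    refine fix_of_series d hk₁ hδk hz ((hπc _ _).2 ?_)
    rw [map_commutatorElement, ← hε]
    have hσ𝒢 : σ ∈ 𝒢 := hσ ▸ mul_mem he𝒢 he𝒢
    have hε𝒢 : ε ∈ 𝒢 := hεeq ▸ mul_mem (mul_mem (mul_mem hσ𝒢 hα𝒢) (inv_mem hσ𝒢)) (inv_mem hα𝒢)
    obtain ⟨j, hj⟩ := mem_zpowers_iff.1 hX0z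
    exact hfixP2 ε (hj ▸ hεX.zpow_right j) hεY _ ((h𝒢 ε).1 hε𝒢 _ (hπW hz))
  exfalso
  -- the cubic map vanishes
  have hτy : τ * y * τ⁻¹ * y ∈ nQ T := by
    rw [← hπ1, map_mul, map_mul, map_mul, map_inv, hτπ, ← hY, ← hσ, hσY, inv_mul_cancel]
  have hcub1 := cub_conj d L ha hτO (hδ ▸ hδker) hyq
  have hτyq : τ * y * τ⁻¹ ∈ q0 T := Normal.conj_mem inferInstance y hyq τ
  have hcuby : ⁅a, ⁅a, y⁆⁆ ∈ Fr (q0 T) := by
    have hn : ⁅a, ⁅a, τ * y * τ⁻¹ * y⁆⁆ ∈ Fr (q0 T) := L.cub_fix a ha _ (nQ_le d hτy) (by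
      rw [commutatorElement_def]
      exact mul_mem (Normal.conj_mem inferInstance _ hτy a) (inv_mem hτy))
    rw [L.cub_mul a ha _ hτyq _ hyq] at hn
    obtain ⟨g, hg⟩ : ∃ g, g = ⁅a, ⁅a, y⁆⁆ := ⟨_, rfl⟩
    obtain ⟨g', hg'⟩ : ∃ g', g' = ⁅a, ⁅a, τ * y * τ⁻¹⁆⁆ := ⟨_, rfl⟩
    rw [← hg, ← hg'] at hn hcub1
    rw [← hg]
    have h2 : g * g ∈ Fr (q0 T) := by
      have h3 := mul_mem (inv_mem hcub1) hn
      rwa [show (g' * g⁻¹)⁻¹ * (g' * g) = g * g by group] at h3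
    have h4 : g ^ 3 ∈ Fr (q0 T) := pow_mem_Fr d.q0_pgroup (hg ▸ hcm (hcm hyq))
    have h5 := mul_mem (inv_mem h2) h4
    rwa [show (g * g)⁻¹ * g ^ 3 = g by rw [pow_succ, pow_two]; group] at h5
  obtain ⟨z, hz, hne⟩ := L.cub_ne a ha hna
  have hzq := L.R_le_q0 hz
  refine hne ?_
  have hy1 : ⁅a, y⁆ ∉ nQ T := fun h => hαY (hα ▸ hY ▸ (hπc _ _).1 h)
  obtain ⟨k, hk⟩ := L.line_pow hF a ha z hzq y hyq hy1
  have hfix : ⁅a, z * y ^ k⁆ ∈ nQ T := by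
    rw [← hπ1, map_commutatorElement, map_mul, map_pow, ← hα, ← hY]
    rw [← hπ1, map_mul, map_pow, map_commutatorElement, map_commutatorElement, ← hα, ← hY] at hk
    rw [comm_conj_mul]
    have hzW : π z ∈ W := hπW hzq
    have hc1 : ⁅α, Y ^ k⁆ = ⁅α, Y⁆ ^ k := by
      have h8 : (α * Y * α⁻¹) ^ k * (Y ^ k)⁻¹ = ⁅α, Y⁆ ^ k := by
        rw [hαY', hXY.mul_pow, mul_inv_cancel_right, ← hX1]
      rw [← h8, conj_pow, commutatorElement_def]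
    have hc2 : π z * ⁅α, Y⁆ ^ k * (π z)⁻¹ = ⁅α, Y⁆ ^ k := by
      rw [← hX1, ((hWc _ hzW _ hX1W).pow_right k).eq, mul_inv_cancel_right]
    rw [hc1, hc2, hk]
  have hcubk : ∀ i : ℕ, ⁅a, ⁅a, y ^ i⁆⁆ ∈ Fr (q0 T) := by
    intro i
    induction i with
    | zero => simp
    | succ i ih =>
      rw [pow_succ, L.cub_mul a ha _ (pow_mem hyq i) _ hyq]
      exact mul_mem ih hcuby
  have h6 := L.cub_fix a ha _ (mul_mem hzq (pow_mem hyq k)) hfix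
  rw [L.cub_mul a ha _ hzq _ (pow_mem hyq k)] at h6
  have h7 := mul_mem h6 (inv_mem (hcubk k))
  rwa [mul_inv_cancel_right] at h7

end CfsgLib.CFun.MinParab.Push.Two
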